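import Cfsg.Agent.Lib.Perm.Trans.UnitExt.Base

/-!
# Unitary extension fields: maps preserving the isotropic lines are semilinear
-/

set_option autoImplicit false
set_option linter.all false

namespace CfsgLib.Perm.Trans.Unit.Ext

open scoped Matrix
open Matrix Module Cfsg.Geo CfsgLib.Perm.Asch CfsgLib.Perm.Trans CfsgLib.Perm.Trans.Unit

variable {ι : Type} [Fintype ι] [DecidableEq ι] {F : Type*} [Field F] [Fintype F]
variable {E : Type*} [Field E] [Algebra F E] [FiniteDimensional F E]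
variable [Module E (ι → F)] [IsScalarTower F E (ι → F)]
variable {σ : F ≃+* F} {τ : E ≃+* E} {f : (ι → F) → (ι → F) → F} {M : Subgroup (GL ι F)}
variable (S : UData τ σ f M)
include S

/-- one scalar map on a hyperbolic pair -/
theorem pair_scalar {g : GL ι F}
    (h : ∀ v, Bf S v v = 0 → ∀ e : E, (g : Matrix ι ι F) *ᵥ (e • v) ∈ Submodule.span E {(g : Matrix ι ι F) *ᵥ v})
    {x y : ι → F} (hxx : Bf S x x = 0) (hyy : Bf S y y = 0) (hxy : Bf S x y = 1) {a : E → E}
    (ha : ∀ e, (g : Matrix ι ι F) *ᵥ (e • x) = a e • ((g : Matrix ι ι F) *ᵥ x)) :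
    (∀ e, (g : Matrix ι ι F) *ᵥ (e • y) = a e • ((g : Matrix ι ι F) *ᵥ y)) ∧ ∀ e c, a (e * c) = a e * a c := by
  classical
  haveI : Finite E := Module.finite_of_finite F
  choose b hb using fun e : E => Submodule.mem_span_singleton.1 (h y hyy e)
  replace hb : ∀ e, (g : Matrix ι ι F) *ᵥ (e • y) = b e • ((g : Matrix ι ι F) *ᵥ y) := fun e => (hb e).symm
  have hinj : ∀ z : ι → F, (g : Matrix ι ι F) *ᵥ z = 0 → z = 0 := fun z hz => by
    rw [← gl_inv_mulVec g z, hz, mulVec_zero]
  have hx0 : x ≠ 0 := fun h0 => zero_ne_one ((Bf_zero_left S y).symm.trans (h0 ▸ hxy))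
  have hy0 : y ≠ 0 := fun h0 => zero_ne_one ((Bf_zero_right S x).symm.trans (h0 ▸ hxy))
  have hainj : Function.Injective a := fun p q hpq => by
    have h1 : (p - q) • x = 0 := hinj _ (by rw [sub_smul, mulVec_sub, ha, ha, hpq, sub_self])
    exact sub_eq_zero.1 ((smul_eq_zero.1 h1).resolve_right hx0)
  have hind : ∀ p q : E, p • ((g : Matrix ι ι F) *ᵥ x) + q • ((g : Matrix ι ι F) *ᵥ y) = 0 → p = 0 ∧ q = 0 := by
    intro p q h1
    by_cases hq : q = 0
    · rw [hq, zero_smul, add_zero] at h1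
      exact ⟨(smul_eq_zero.1 h1).resolve_right fun h2 => hx0 (hinj x h2), hq⟩
    exfalso
    obtain ⟨e, he⟩ := (Finite.injective_iff_surjective.1 hainj) (-(p / q))
    have h2 : (g : Matrix ι ι F) *ᵥ (y - e • x) = 0 := by
      rw [mulVec_sub, ha, he, neg_smul, sub_neg_eq_add]
      have h3 := congrArg (fun z => q⁻¹ • z) h1
      simp only [smul_add, smul_smul, inv_mul_cancel₀ hq, one_smul, smul_zero] at h3
      rw [div_eq_inv_mul, add_comm]
      exact h3
    have h3 := hinj _ h2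
    rw [sub_eq_zero] at h3
    rw [h3, Bf_smul_right, hxx, mul_zero] at hxy
    exact zero_ne_one hxy
  have hanti : ∀ c : E, τ c = -c → ∀ e, b (e * c) = a e * b c := by
    intro c hc e
    have hv : Bf S (x + c • y) (x + c • y) = 0 := by
      rw [Bf_add_left, Bf_add_right, Bf_add_right, Bf_smul_left, Bf_smul_left, Bf_smul_right, Bf_smul_right, hxx, hyy,
        hxy, Bf_swap S x y, hxy, map_one, hc]
      ring
    obtain ⟨d, hd⟩ := Submodule.mem_span_singleton.1 (h _ hv e)
    rw [smul_add, mulVec_add, mulVec_add, smul_smul, ha, hb, hb (e * c), smul_add, smul_smul] at hd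
    obtain ⟨h1, h2⟩ := hind (d - a e) (d * b c - b (e * c)) (by
      simp only [sub_smul]
      linear_combination (norm := abel_nf) hd)
    rw [sub_eq_zero] at h1 h2
    rw [← h2, h1]
  have hbadd : ∀ p q, b (p + q) = b p + b q := fun p q => by
    obtain ⟨-, h1⟩ := hind 0 (b (p + q) - (b p + b q)) (by
      rw [zero_smul, zero_add, sub_smul, add_smul, ← hb, ← hb, ← hb, add_smul, mulVec_add, sub_self])
    exact sub_eq_zero.1 h1
  have hbsmul : ∀ (l : F) p, b (l • p) = l • b p := fun l p => by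
    obtain ⟨-, h1⟩ := hind 0 (b (l • p) - l • b p) (by
      rw [zero_smul, zero_add, sub_smul, smul_assoc l (b p), ← hb, ← hb, smul_assoc, mulVec_smul, sub_self])
    exact sub_eq_zero.1 h1
  have hall : ∀ c e, b (e * c) = a e * b c := by
    intro c e
    obtain ⟨l, hl⟩ := exists_not_fixed S.form
    obtain ⟨s, hs, hsσ⟩ := exists_trace_zero S.form
    obtain ⟨p, q, hp, hq, hc, -⟩ := exists_real_decomp S hl c
    have hreal : ∀ r : E, τ r = r → b (e * r) = a e * b r := fun r hr => by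
      have h1 := hanti (s • r) (by rw [tau_smul S, hsσ, hr, neg_smul]) e
      rw [mul_smul_comm, hbsmul, hbsmul, mul_smul_comm] at h1
      exact smul_right_injective E hs h1
    rw [hc, mul_add, mul_smul_comm, hbadd, hbadd, hbsmul, hbsmul, hreal p hp, hreal q hq, mul_add, mul_smul_comm]
  have hb1 : b 1 = 1 := by
    obtain ⟨-, h1⟩ := hind 0 (b 1 - 1) (by rw [zero_smul, zero_add, sub_smul, ← hb, one_smul, one_smul, sub_self])
    exact sub_eq_zero.1 h1
  have hba : ∀ e, b e = a e := fun e => by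
    have h1 := hall 1 e
    rwa [mul_one, hb1, mul_one] at h1
  exact ⟨fun e => by rw [hb, hba], fun e c => by rw [← hba (e * c), hall, hba]⟩

/-- **Semilinearity.** -/
theorem semilinear_of_lines {g : GL ι F}
    (h : ∀ v, Bf S v v = 0 → ∀ e : E, (g : Matrix ι ι F) *ᵥ (e • v) ∈ Submodule.span E {(g : Matrix ι ι F) *ᵥ v})
    (e : E) : ∃ e' : E, ∀ x, (g : Matrix ι ι F) *ᵥ (e • x) = e' • ((g : Matrix ι ι F) *ᵥ x) := by
  classical
  obtain ⟨x, hx0, hxx⟩ := exists_iso S
  obtain ⟨y, hyy, hxy, hyx⟩ := exists_partnerE S hx0 hxx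
  choose a ha using fun e : E => Submodule.mem_span_singleton.1 (h x hxx e)
  replace ha : ∀ e, (g : Matrix ι ι F) *ᵥ (e • x) = a e • ((g : Matrix ι ι F) *ᵥ x) := fun e => (ha e).symm
  obtain ⟨hay, hmul⟩ := pair_scalar S h hxx hyy hxy ha
  let T : Submodule E (ι → F) :=
    { carrier := {z | ∀ e, (g : Matrix ι ι F) *ᵥ (e • z) = a e • ((g : Matrix ι ι F) *ᵥ z)}
      zero_mem' := fun e => by rw [smul_zero, mulVec_zero, smul_zero]
      add_mem' := fun {p q} hp hq e => by rw [smul_add, mulVec_add, mulVec_add, hp e, hq e, smul_add]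
      smul_mem' := fun c z hz e => by rw [smul_smul, hz (e * c), hmul, hz c, smul_smul] }
  have hnon : ∀ p w, p ∈ T → Bf S p p = 0 → Bf S w w = 0 → Bf S p w ≠ 0 → w ∈ T := by
    intro p w hp hpp hww hpw
    have h1 : Bf S p ((τ (Bf S p w))⁻¹ • w) = 1 := by
      rw [Bf_smul_right, map_inv₀, S.tau_inv, inv_mul_cancel₀ hpw]
    have h2 := (pair_scalar S h hpp (by rw [Bf_smul_left, Bf_smul_right, hww, mul_zero, mul_zero]) h1
      (a := a) hp).1
    have h3 := T.smul_mem (τ (Bf S p w)) (show (τ (Bf S p w))⁻¹ • w ∈ T from h2)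
    rwa [smul_smul, mul_inv_cancel₀ ((map_ne_zero_iff τ τ.injective).2 hpw), one_smul] at h3
  have hiso : ∀ w, Bf S w w = 0 → w ∈ T := by
    intro w hww
    by_cases h1 : Bf S x w = 0
    swap
    · exact hnon x w ha hxx hww h1
    by_cases h2 : Bf S y w = 0
    swap
    · exact hnon y w hay hyy hww h2
    have h3 : w + y ∈ T := by
      refine hnon x (w + y) ha hxx ?_ ?_
      · rw [Bf_add_left, Bf_add_right, Bf_add_right, hww, hyy, h2, Bf_swap_zero S h2]; simp
      · rw [Bf_add_right, h1, hxy, zero_add]; exact one_ne_zero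
    have h4 := T.sub_mem h3 (show y ∈ T from hay)
    rwa [add_sub_cancel_right] at h4
  refine ⟨a e, fun z => ?_⟩
  suffices hz : z ∈ T from hz e
  obtain ⟨p, hp⟩ : ∃ p, p = z - Bf S z y • x - Bf S z x • y := ⟨_, rfl⟩
  have hpx : Bf S p x = 0 := by rw [hp, Bf_sub_left, Bf_sub_left, Bf_smul_left, Bf_smul_left, hxx, hyx]; ring
  have hpy : Bf S p y = 0 := by rw [hp, Bf_sub_left, Bf_sub_left, Bf_smul_left, Bf_smul_left, hxy, hyy]; ring
  obtain ⟨t, ht⟩ := exists_trace_one_E S
  obtain ⟨k, hk⟩ : ∃ k, k = -(t * Bf S p p) := ⟨_, rfl⟩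
  have hw : y + k • x + p ∈ T := by
    refine hiso _ ?_
    simp only [Bf_add_left, Bf_add_right, Bf_smul_left, Bf_smul_right, hxx, hyy, hxy, hyx, hpx, hpy,
      Bf_swap_zero S hpx, Bf_swap_zero S hpy]
    rw [hk, map_neg, map_mul, ← Bf_swap S p p]
    linear_combination -(Bf S p p) * ht
  have hxT : x ∈ T := ha
  have hyT : y ∈ T := hay
  have hpT : p ∈ T := by
    have h4 := T.sub_mem (T.sub_mem hw hyT) (T.smul_mem k hxT)
    rwa [show y + k • x + p - y - k • x = p by abel] at h4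
  have h5 := T.add_mem (T.add_mem hpT (T.smul_mem (Bf S z y) hxT)) (T.smul_mem (Bf S z x) hyT)
  rwa [show p + Bf S z y • x + Bf S z x • y = z by rw [hp]; abel] at h5

end CfsgLib.Perm.Trans.Unit.Ext
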