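import Cfsg.Agent.Lib.Perm.Trans.UnitExt.Spread
import Cfsg.Agent.Lib.Perm.Trans.UnitExt.Semi

/-!
# Normalisers of extension fields of odd prime degree in the special unitary group are maximal
-/

set_option autoImplicit false
set_option linter.all false

namespace CfsgLib.Perm.Trans.Unit.Ext

open scoped Matrix
open Matrix Module Cfsg.Geo CfsgLib.Perm.Asch CfsgLib.Perm.Trans CfsgLib.Perm.Trans.Unit

variable {ι : Type} [Fintype ι] [DecidableEq ι] {F : Type*} [Field F] [Fintype F]
variable {σ : F ≃+* F} {f : (ι → F) → (ι → F) → F}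

/-- adjoint closed field extensions of odd prime degree give maximal subgroups -/
theorem extField_maximal (hf : IsUnitaryForm σ f) {r : ℕ} (hr : r.Prime) (hro : Odd r)
    (hn : 2 * r ≤ Fintype.card ι) (hex : 3 * r ≤ Fintype.card ι ∨ ¬ (r = 3 ∧ Fintype.card F = 4))
    {K : Subalgebra F (Matrix ι ι F)} (hK : IsFieldSubalgebra r K) (hac : IsAdjointClosedFor f K) :
    IsMaximalIn (isoU f ⊓ specialLinear ι F)
      (subalgebraNormalizer K ⊓ (isoU f ⊓ specialLinear ι F)) := by
  classical
  have hr3 : 3 ≤ r := by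
    obtain ⟨k, hk⟩ := hro
    have := hr.two_le
    omega
  haveI : Nonempty ι := Fintype.card_pos_iff.1 (by omega)
  haveI : Nontrivial K := ⟨⟨0, 1, fun h => zero_ne_one (congrArg Subtype.val h :)⟩⟩
  have hfield : IsField K :=
    { exists_pair_ne := ⟨0, 1, zero_ne_one⟩
      mul_comm := fun a b => Subtype.ext (hK.comm _ a.2 _ b.2)
      mul_inv_cancel := fun {a} ha => by
        obtain ⟨y, hy, h⟩ := hK.inv _ a.2 fun h => ha (Subtype.ext h)
        exact ⟨⟨y, hy⟩, Subtype.ext h⟩ }
  letI : Field K := hfield.toField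
  have hsmul : ∀ (k : K) (x : ι → F), k • x = (k : Matrix ι ι F) *ᵥ x := fun k x => rfl
  haveI : IsScalarTower F K (ι → F) := ⟨fun c k x => by
    rw [hsmul, hsmul, Subalgebra.coe_smul, Matrix.smul_mulVec]⟩
  haveI : FiniteDimensional F K := Module.Finite.of_finite
  haveI : FiniteDimensional K (ι → F) := Module.Finite.of_finite
  have hrK : finrank F K = r := hK.finrank_eq
  have hmul : r * finrank K (ι → F) = Fintype.card ι := by
    rw [← hrK, finrank_mul_finrank F K (ι → F), Module.finrank_fintype_fun_eq_card]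
  have htwo : 2 ≤ finrank K (ι → F) := by
    by_contra hlt
    have : r * finrank K (ι → F) ≤ r * 1 := Nat.mul_le_mul_left _ (by omega)
    omega
  -- the adjoint
  have hadj : ∀ k : K, ∃ k' : K, ∀ x y, f (k • x) y = f x (k' • y) := fun k => by
    obtain ⟨k', hk', h⟩ := hac _ k.2
    exact ⟨⟨k', hk'⟩, h⟩
  choose t ht using hadj
  obtain ⟨x₀, hx₀⟩ : ∃ x : ι → F, x ≠ 0 := exists_ne 0
  have huniq : ∀ k k' : K, (∀ x y, f (k • x) y = f x (k' • y)) → t k = k' := fun k k' h => by
    have h1 : (t k - k') • x₀ = 0 := eq_of_herm hf fun x => by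
      rw [sub_smul, herm_sub_right hf, ← ht, h, sub_self, herm_zero_right hf]
    exact sub_eq_zero.1 ((smul_eq_zero.1 h1).resolve_right hx₀)
  have htadd : ∀ a b, t (a + b) = t a + t b := fun a b => huniq _ _ fun x y => by
    rw [add_smul, hf.add_left, add_smul, herm_add_right hf, ← ht, ← ht]
  have htmul : ∀ a b, t (a * b) = t a * t b := fun a b => huniq _ _ fun x y => by
    rw [mul_smul, ht, ht, mul_comm (t a), mul_smul]
  have htinv : ∀ a, t (t a) = a := fun a => huniq _ _ fun x y => by
    rw [hf.herm, ← ht, ← hf.herm]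
  let τ : K ≃+* K := { toFun := t, invFun := t, left_inv := htinv, right_inv := htinv, map_mul' := htmul, map_add' := htadd }
  have hτt : ∀ k, τ k = t k := fun k => rfl
  have htalg : ∀ c : F, t (algebraMap F K c) = algebraMap F K (σ c) := fun c => huniq _ _ fun x y => by
    rw [algebraMap_smul, algebraMap_smul, hf.smul_left, herm_smul_right hf, hf.involutive]
  have norm_of : ∀ g : GL ι F,
      (∀ e : K, ∃ e' : K, ∀ x, (g : Matrix ι ι F) *ᵥ (e • x) = e' • ((g : Matrix ι ι F) *ᵥ x)) →
      g ∈ subalgebraNormalizer K := by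
    intro g hn
    have hfwd : ∀ k : Matrix ι ι F, k ∈ K →
        (g : Matrix ι ι F) * k * ((g⁻¹ : GL ι F) : Matrix ι ι F) ∈ K := by
      intro k hk
      obtain ⟨e', he⟩ := hn ⟨k, hk⟩
      have hmat : (g : Matrix ι ι F) * k = (e' : Matrix ι ι F) * g := by
        refine Matrix.ext_iff_mulVec.2 fun x => ?_
        rw [← Matrix.mulVec_mulVec, ← Matrix.mulVec_mulVec, ← hsmul ⟨k, hk⟩, ← hsmul e']
        exact he x
      rw [hmat, mul_assoc, Units.mul_inv, mul_one]
      exact e'.2
    intro k
    refine ⟨hfwd k, fun hk => ?_⟩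
    have hinj : Function.Injective (fun k : K => (⟨_, hfwd (k : Matrix ι ι F) k.2⟩ : K)) := fun a b hab =>
      Subtype.ext (by
        have h1 := congrArg Subtype.val hab
        exact (Units.mul_right_inj g).1 ((Units.mul_left_inj g⁻¹).1 h1))
    obtain ⟨k', hk'⟩ := (Finite.injective_iff_surjective.1 hinj) ⟨_, hk⟩
    have h1 := congrArg Subtype.val hk'
    rw [show k = (k' : Matrix ι ι F) from ((Units.mul_right_inj g).1 ((Units.mul_left_inj g⁻¹).1 h1)).symm]
    exact k'.2
  refine isMaximalIn_of_centres hf (by omega) (fun hle => ?_) fun M hHM hM hnot => ?_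
  · -- a transvection
    obtain ⟨u, -, hu0, huu⟩ := exists_isotropic hf (W := (⊤ : Submodule F (ι → F))) (by
      rw [finrank_top, Module.finrank_fintype_fun_eq_card]; omega)
    obtain ⟨c, hc0, hc⟩ := exists_trace_zero hf
    obtain ⟨g, hg⟩ : ∃ g, g = tv u (c • hv hf u) (utv_orth hf huu c) := ⟨_, rfl⟩
    have hgmem : g ∈ subalgebraNormalizer K := by
      rw [hg]
      exact hle ⟨mem_isoU.2 (utv_isometry hf u huu hc (utv_orth hf huu c)), tv_mem_SL _ _ _⟩
    have hgx : ∀ x, (g : Matrix ι ι F) *ᵥ x = x + (c * f x u) • u := fun x => by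
      rw [hg, tv_mulVec, smul_dotProduct, hv_dot, smul_eq_mul]
    have hcomm : ∀ k : K, ∀ y, (c * f (k • y) u) • u = (c * f y u) • (k • u) := by
      intro k
      obtain ⟨k', hk'def⟩ : ∃ k' : K, k' = ⟨_, (hgmem (k : Matrix ι ι F)).1 k.2⟩ := ⟨_, rfl⟩
      have hk' : ∀ y, k' • ((g : Matrix ι ι F) *ᵥ y) = (g : Matrix ι ι F) *ᵥ (k • y) := fun y => by
        rw [hk'def, hsmul ⟨_, _⟩, ← Matrix.mulVec_mulVec, ← Matrix.mulVec_mulVec, gl_inv_mulVec, hsmul]
      have heq : k' = k := by
        obtain ⟨y, hy, hy0⟩ := Submodule.exists_mem_ne_zero_of_ne_bot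
          (LinearMap.ker_ne_bot_of_finrank_lt
            (f := (hFun hf u).prod ((hFun hf u).comp (Matrix.mulVecLin (k : Matrix ι ι F))))
            (by rw [Module.finrank_prod, Module.finrank_self, Module.finrank_fintype_fun_eq_card]; omega))
        rw [LinearMap.mem_ker, LinearMap.prod_apply, Prod.ext_iff] at hy
        have h1 : f y u = 0 := hy.1
        have h2 : f (k • y) u = 0 := hy.2
        have h3 := hk' y
        rw [hgx, hgx, h1, h2, mul_zero, zero_smul, add_zero, add_zero] at h3
        exact sub_eq_zero.1 ((smul_eq_zero.1 (show (k' - k) • y = 0 by rw [sub_smul, h3, sub_self])).resolve_right hy0)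
      intro y
      have h3 := hk' y
      rw [heq, hgx, hgx, smul_add, smul_comm] at h3
      exact (add_left_cancel h3).symm
    obtain ⟨y, hy⟩ := (hf.nondegenerate u hu0).1
    obtain ⟨k, hk⟩ : ∃ k : K, ∀ c : F, c • (1 : K) ≠ k := by
      by_contra hcon
      push Not at hcon
      have h1 := finrank_le_one (R := F) (1 : K) hcon
      omega
    have h1 := hcomm k y
    refine hk ((c * f (k • y) u) / (c * f y u)) (sub_eq_zero.1 ?_)
    have h2 : ((c * f (k • y) u / (c * f y u)) • (1 : K) - k) • u = 0 := by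
      rw [sub_smul, smul_assoc, one_smul, div_eq_inv_mul, mul_smul, h1, smul_smul,
        inv_mul_cancel₀ (mul_ne_zero hc0 hy), one_smul, sub_self]
    exact (smul_eq_zero.1 h2).resolve_right hu0
  · have S : UData τ σ f M :=
      { form := hf
        prime := by rw [hrK]; exact hr
        odd := by rw [hrK]; exact hro
        two_le := htwo
        tau_alg := htalg
        tau_inv := htinv
        adj := fun e x y => ht e x y
        le := hM.trans inf_le_left
        lin_le := fun g hg hdet hlin => hHM ⟨norm_of g fun e => ⟨e, hlin e⟩, hg, Units.ext hdet⟩ }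
    obtain ⟨g, hg, hgn⟩ := SetLike.not_le_iff_exists.1 hnot
    obtain ⟨v, hv, e, hve⟩ : ∃ v, Bf S v v = 0 ∧ ∃ e : K,
        (g : Matrix ι ι F) *ᵥ (e • v) ∉ Submodule.span K {(g : Matrix ι ι F) *ᵥ v} := by
      by_contra hcon
      push Not at hcon
      exact hgn (norm_of g fun e => semilinear_of_lines S hcon e)
    obtain ⟨g', v', w, β, s, st⟩ := exists_state S hg hv hve
    obtain ⟨u, hu0, huu, huC⟩ := exists_centre S st
    refine centres_all S ?_ hu0 huu huC
    rw [hrK]
    rcases hex with h | h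
    · left
      by_contra hlt
      have : r * finrank K (ι → F) ≤ r * 2 := Nat.mul_le_mul_left _ (by omega)
      omega
    · exact Or.inr h

end CfsgLib.Perm.Trans.Unit.Ext
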