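import Cfsg.Agent.Lib.Perm.Trans.UnitDecomp.Arith
import Cfsg.Agent.Lib.Perm.ExtField.Basic

/-!
# Unitary extension fields: the hermitian form over the extension

`E` is an extension of odd prime degree of `F` inside the endomorphisms, closed under adjoints for the hermitian
form `f`; the adjoint is an involution `τ` extending `σ`, and `f` is the trace of a hermitian form `Bf` over `E`.
-/

set_option autoImplicit false
set_option linter.all false

namespace CfsgLib.Perm.Trans.Unit.Ext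

open scoped Matrix
open Matrix Module Cfsg.Geo CfsgLib.Perm.Asch CfsgLib.Perm.Trans CfsgLib.Perm.Trans.Unit

variable {ι : Type} [Fintype ι] [DecidableEq ι] {F : Type*} [Field F] [Fintype F]
variable {E : Type*} [Field E] [Algebra F E] [FiniteDimensional F E]
variable [Module E (ι → F)] [IsScalarTower F E (ι → F)]
variable {σ : F ≃+* F} {τ : E ≃+* E} {f : (ι → F) → (ι → F) → F}

/-- the data of an overgroup -/
structure UData (τ : E ≃+* E) (σ : F ≃+* F) (f : (ι → F) → (ι → F) → F) (M : Subgroup (GL ι F)) : Prop where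
  form : IsUnitaryForm σ f
  prime : (finrank F E).Prime
  odd : Odd (finrank F E)
  two_le : 2 ≤ finrank E (ι → F)
  tau_alg : ∀ c : F, τ (algebraMap F E c) = algebraMap F E (σ c)
  tau_inv : ∀ e : E, τ (τ e) = e
  adj : ∀ (e : E) (x y : ι → F), f (e • x) y = f x (τ e • y)
  le : M ≤ isoU f
  lin_le : ∀ g ∈ isoU f, (g : Matrix ι ι F).det = 1 →
    (∀ (e : E) (x : ι → F), (g : Matrix ι ι F) *ᵥ (e • x) = e • ((g : Matrix ι ι F) *ᵥ x)) → g ∈ M

variable (F E) in
/-- the trace -/
noncomputable abbrev tr : E →ₗ[F] F := Algebra.trace F E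

theorem tr_ext {a b : E} (h : ∀ q : E, tr F E (q * a) = tr F E (q * b)) : a = b := by
  haveI : Finite E := Module.finite_of_finite F
  by_contra hne
  refine Algebra.trace_ne_zero F E (LinearMap.ext fun z => ?_)
  have h1 := h (z * (a - b)⁻¹)
  rw [← sub_eq_zero, ← map_sub, ← mul_sub, inv_mul_cancel_right₀ (sub_ne_zero.2 hne)] at h1
  exact h1

variable (F E) in
/-- `a ↦ (q ↦ tr (q a))` -/
noncomputable def trDual : E ≃ₗ[F] Module.Dual F E :=
  LinearEquiv.ofBijective
    ({ toFun := fun a => (tr F E).comp (LinearMap.mulRight F a)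
       map_add' := fun a b => LinearMap.ext fun q => by simp [mul_add]
       map_smul' := fun c a => LinearMap.ext fun q => by simp } : E →ₗ[F] Module.Dual F E)
    (by
      have hinj : Function.Injective
          ({ toFun := fun a => (tr F E).comp (LinearMap.mulRight F a)
             map_add' := fun a b => LinearMap.ext fun q => by simp [mul_add]
             map_smul' := fun c a => LinearMap.ext fun q => by simp } : E →ₗ[F] Module.Dual F E) :=
        fun a b hab => tr_ext (F := F) fun q => LinearMap.congr_fun hab q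
      exact ⟨hinj, (LinearMap.injective_iff_surjective_of_finrank_eq_finrank
        (Subspace.dual_finrank_eq).symm).1 hinj⟩)

theorem trDual_apply (a q : E) : trDual F E a q = tr F E (q * a) := rfl

section

variable {M : Subgroup (GL ι F)} (S : UData τ σ f M)
include S

theorem tau_smul (c : F) (e : E) : τ (c • e) = σ c • τ e := by
  rw [Algebra.smul_def, map_mul, S.tau_alg, ← Algebra.smul_def]

theorem tr_tau (e : E) : tr F E (τ e) = σ (tr F E e) := by
  have h := Algebra.trace_eq_of_equiv_equiv σ τ (RingHom.ext fun c => (S.tau_alg c).symm) e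
  rw [tr, h, RingEquiv.apply_symm_apply]

theorem tr_fixed {e : E} (he : τ e = e) : σ (tr F E e) = tr F E e := by
  rw [← tr_tau S, he]

/-- every element is a combination of two fixed ones -/
theorem exists_real_decomp {c : F} (hc : σ c ≠ c) (e : E) :
    ∃ a b : E, τ a = a ∧ τ b = b ∧ e = a + c • b ∧
      ∀ Z : Submodule F E, e ∈ Z → τ e ∈ Z → a ∈ Z ∧ b ∈ Z := by
  have hd : c - σ c ≠ 0 := sub_ne_zero.2 (Ne.symm hc)
  obtain ⟨b, hb⟩ : ∃ b, b = (c - σ c)⁻¹ • (e - τ e) := ⟨_, rfl⟩
  have hτb : τ b = b := by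
    rw [hb, tau_smul S, map_inv₀, map_sub, S.form.involutive, map_sub, S.tau_inv, ← neg_sub e (τ e), smul_neg,
      ← neg_smul, ← inv_neg, neg_sub]
  have h1 : (c - σ c) • b = e - τ e := by rw [hb, smul_smul, mul_inv_cancel₀ hd, one_smul]
  refine ⟨e - c • b, b, ?_, hτb, (sub_add_cancel _ _).symm, fun Z hZ hZ' => ?_⟩
  · rw [map_sub, tau_smul S, hτb]
    rw [sub_smul] at h1
    have h2 : e = τ e + (c • b - σ c • b) := by rw [h1]; abel
    conv_rhs => rw [h2]
    abel
  · have hbZ : b ∈ Z := hb ▸ Z.smul_mem _ (Z.sub_mem hZ hZ')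
    exact ⟨Z.sub_mem hZ (Z.smul_mem _ hbZ), hbZ⟩

/-- fixed elements separate -/
theorem eq_zero_of_real {a : E} (h : ∀ e : E, τ e = e → tr F E (e * a) = 0) : a = 0 := by
  obtain ⟨c, hc⟩ := exists_not_fixed S.form
  refine tr_ext (F := F) fun q => ?_
  obtain ⟨x, y, hx, hy, hq, -⟩ := exists_real_decomp S hc q
  rw [mul_zero, map_zero, hq, add_mul, smul_mul_assoc, map_add, map_smul, h x hx, h y hy, smul_zero, add_zero]

theorem exists_tr_real {a : E} (ha : a ≠ 0) : ∃ e : E, τ e = e ∧ tr F E (e * a) ≠ 0 := by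
  by_contra hcon
  push Not at hcon
  exact ha (eq_zero_of_real S hcon)

theorem exists_real_notMem : ∃ θ : E, τ θ = θ ∧ θ ∉ (algebraMap F E).range := by
  by_contra hcon
  push Not at hcon
  obtain ⟨c, hc⟩ := exists_not_fixed S.form
  have h1 : finrank F E ≤ 1 := finrank_le_one (R := F) (1 : E) fun e => by
    obtain ⟨a, b, ha, hb, he, -⟩ := exists_real_decomp S hc e
    obtain ⟨a', rfl⟩ := hcon a ha
    obtain ⟨b', rfl⟩ := hcon b hb
    exact ⟨a' + c * b', by rw [he, add_smul, Algebra.algebraMap_eq_smul_one, Algebra.algebraMap_eq_smul_one,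
      smul_smul]⟩
  exact absurd S.prime.two_le (by omega)

omit [Module E (ι → F)] [IsScalarTower F E (ι → F)] S in
theorem natDegree_minpoly_of_prime (hp : (finrank F E).Prime) {θ : E} (hθ : θ ∉ (algebraMap F E).range) :
    (minpoly F θ).natDegree = finrank F E :=
  ((Nat.dvd_prime hp).1 (minpoly.degree_dvd (IsIntegral.of_finite F θ))).resolve_left fun h =>
    hθ (minpoly.natDegree_eq_one_iff.1 h)

theorem exists_trace_one_E : ∃ t : E, t + τ t = 1 := by
  obtain ⟨x, hx⟩ := exists_trace S.form (map_one σ)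
  exact ⟨algebraMap F E x, by rw [S.tau_alg, ← map_add, hx, map_one]⟩

theorem exists_norm_E {d : E} (hd : τ d = d) : ∃ x : E, x * τ x = d := by
  haveI : Finite E := Module.finite_of_finite F
  haveI : Fintype E := Fintype.ofFinite E
  rcases eq_or_ne d 0 with rfl | hd0
  · exact ⟨0, zero_mul _⟩
  have hord : orderOf (τ : RingAut E) = 2 := by
    refine orderOf_eq_prime (RingEquiv.ext fun x => ?_) fun h1 => ?_
    · rw [pow_two]
      exact S.tau_inv x
    · obtain ⟨c, hc⟩ := exists_not_fixed S.form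
      refine hc ((algebraMap F E).injective ?_)
      rw [← S.tau_alg, h1]
      rfl
  obtain ⟨x, -, hx⟩ := CfsgLib.Descent.exists_norm_eq hord two_pos hd0 hd
  rw [Finset.prod_range_succ, Finset.prod_range_one, pow_zero, pow_one] at hx
  exact ⟨x, hx⟩

/-- `q ↦ f (q x) y` -/
noncomputable def qfun (x y : ι → F) : Module.Dual F E where
  toFun q := f (q • x) y
  map_add' p q := by rw [add_smul, S.form.add_left]
  map_smul' c q := by rw [smul_assoc, S.form.smul_left]; rfl

/-- the form over `E` -/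
noncomputable def Bf (x y : ι → F) : E := (trDual F E).symm (qfun S x y)

theorem tr_Bf (q : E) (x y : ι → F) : tr F E (q * Bf S x y) = f (q • x) y := by
  rw [← trDual_apply, Bf, LinearEquiv.apply_symm_apply]
  rfl

theorem f_eq (x y : ι → F) : f x y = tr F E (Bf S x y) := by
  conv_lhs => rw [← one_smul E x, ← tr_Bf S, one_mul]

theorem Bf_add_left (x x' y : ι → F) : Bf S (x + x') y = Bf S x y + Bf S x' y := tr_ext (F := F) fun q => by
  rw [mul_add, map_add, tr_Bf, tr_Bf, tr_Bf, smul_add, S.form.add_left]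

theorem Bf_smul_left (e : E) (x y : ι → F) : Bf S (e • x) y = e * Bf S x y := tr_ext (F := F) fun q => by
  rw [← mul_assoc, tr_Bf, tr_Bf, smul_smul]

theorem Bf_fsmul_left (c : F) (x y : ι → F) : Bf S (c • x) y = c • Bf S x y := by
  rw [← algebraMap_smul E c x, Bf_smul_left, Algebra.smul_def]

theorem Bf_swap (x y : ι → F) : Bf S y x = τ (Bf S x y) := tr_ext (F := F) fun q => by
  conv_rhs => rw [← S.tau_inv q, ← map_mul, tr_tau S, tr_Bf, ← S.form.herm]
  rw [tr_Bf, S.adj]

theorem Bf_add_right (x y y' : ι → F) : Bf S x (y + y') = Bf S x y + Bf S x y' := by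
  rw [Bf_swap S (y + y') x, Bf_add_left, map_add, ← Bf_swap S, ← Bf_swap S]

theorem Bf_smul_right (e : E) (x y : ι → F) : Bf S x (e • y) = τ e * Bf S x y := by
  rw [Bf_swap S (e • y) x, Bf_smul_left, map_mul, ← Bf_swap S]

theorem Bf_fsmul_right (c : F) (x y : ι → F) : Bf S x (c • y) = σ c • Bf S x y := by
  rw [← algebraMap_smul E c y, Bf_smul_right, S.tau_alg, Algebra.smul_def]

theorem Bf_zero_left (y : ι → F) : Bf S 0 y = 0 := by
  simpa using Bf_smul_left S (0 : E) 0 y

theorem Bf_zero_right (x : ι → F) : Bf S x 0 = 0 := by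
  rw [Bf_swap S 0 x, Bf_zero_left, map_zero]

theorem Bf_swap_zero {x y : ι → F} (h : Bf S x y = 0) : Bf S y x = 0 := by rw [Bf_swap, h, map_zero]

theorem Bf_neg_left (x y : ι → F) : Bf S (-x) y = -Bf S x y := by
  rw [← neg_one_smul E x, Bf_smul_left, neg_one_mul]

theorem Bf_sub_left (x x' y : ι → F) : Bf S (x - x') y = Bf S x y - Bf S x' y := by
  rw [sub_eq_add_neg, Bf_add_left, Bf_neg_left, sub_eq_add_neg]

theorem Bf_sub_right (x y y' : ι → F) : Bf S x (y - y') = Bf S x y - Bf S x y' := by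
  rw [Bf_swap S (y - y') x, Bf_sub_left, map_sub, ← Bf_swap S, ← Bf_swap S]

theorem isotropic_line {v : ι → F} (hv : Bf S v v = 0) (p q : E) : f (p • v) (q • v) = 0 := by
  rw [f_eq S, Bf_smul_left, Bf_smul_right, hv, mul_zero, mul_zero, map_zero]

theorem exists_ne_zero_pair {y : ι → F} (hy : y ≠ 0) : ∃ z, Bf S z y ≠ 0 := by
  obtain ⟨z, hz⟩ := (S.form.nondegenerate y hy).1
  exact ⟨z, fun h => hz (by rw [f_eq S, h, map_zero])⟩

/-- separation -/
theorem exists_sep {x y : ι → F} (h : x ∉ Submodule.span E {y}) : ∃ z, Bf S z y = 0 ∧ Bf S z x ≠ 0 := by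
  by_contra hcon
  push Not at hcon
  apply h
  rcases eq_or_ne x 0 with hx | hx
  · rw [hx]
    exact Submodule.zero_mem _
  rcases eq_or_ne y 0 with hy | hy
  · obtain ⟨z, hz⟩ := exists_ne_zero_pair S hx
    exact absurd (hcon z (by rw [hy]; exact Bf_zero_right S z)) hz
  obtain ⟨z₁, hz₁⟩ := exists_ne_zero_pair S hy
  refine Submodule.mem_span_singleton.2 ⟨τ (Bf S z₁ x / Bf S z₁ y), ?_⟩
  by_contra hne
  obtain ⟨z, hz⟩ := exists_ne_zero_pair S (sub_ne_zero.2 (Ne.symm hne))
  have h1 : Bf S (z - (Bf S z y / Bf S z₁ y) • z₁) y = 0 := by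
    rw [Bf_sub_left, Bf_smul_left, div_mul_cancel₀ _ hz₁, sub_self]
  have h2 := hcon _ h1
  rw [Bf_sub_left, Bf_smul_left, sub_eq_zero] at h2
  apply hz
  rw [Bf_sub_right, Bf_smul_right, S.tau_inv, h2]
  field_simp
  ring

/-- an isotropic vector with prescribed vanishing -/
theorem exists_iso_sep {x y : ι → F} (hxx : Bf S x x = 0) (hxy : Bf S x y = 0)
    (h : x ∉ Submodule.span E {y}) : ∃ u, Bf S u u = 0 ∧ Bf S u y = 0 ∧ Bf S u x ≠ 0 := by
  obtain ⟨z, hzy, hzx⟩ := exists_sep S h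
  obtain ⟨t, ht⟩ := exists_trace_one_E S
  have hzz : τ (Bf S z z) = Bf S z z := (Bf_swap S z z).symm
  have hxz : Bf S x z ≠ 0 := fun h0 => hzx (Bf_swap_zero S h0)
  obtain ⟨c, hc⟩ : ∃ c, c = -(t * Bf S z z) / Bf S x z := ⟨_, rfl⟩
  refine ⟨z + c • x, ?_, ?_, ?_⟩
  · have h1 : c * Bf S x z = -(t * Bf S z z) := by rw [hc, div_mul_cancel₀ _ hxz]
    have h2 : τ c * Bf S z x = -(τ t * Bf S z z) := by
      rw [Bf_swap S x z, ← map_mul, h1, map_neg, map_mul, hzz]
    rw [Bf_add_left, Bf_add_right, Bf_add_right, Bf_smul_left, Bf_smul_left, Bf_smul_right, Bf_smul_right, hxx]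
    linear_combination h1 + h2 - Bf S z z * ht
  · rw [Bf_add_left, Bf_smul_left, hzy, hxy, mul_zero, add_zero]
  · rw [Bf_add_left, Bf_smul_left, hxx, mul_zero, add_zero]
    exact hzx

/-- an isotropic partner -/
theorem exists_partnerE {x : ι → F} (hx : x ≠ 0) (hxx : Bf S x x = 0) :
    ∃ x', Bf S x' x' = 0 ∧ Bf S x x' = 1 ∧ Bf S x' x = 1 := by
  obtain ⟨z, hz⟩ := exists_ne_zero_pair S hx
  obtain ⟨z', hz'⟩ : ∃ z', z' = (Bf S z x)⁻¹ • z := ⟨_, rfl⟩
  have h1 : Bf S z' x = 1 := by rw [hz', Bf_smul_left, inv_mul_cancel₀ hz]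
  have h2 : Bf S x z' = 1 := by rw [Bf_swap S z' x, h1, map_one]
  have hzz : τ (Bf S z' z') = Bf S z' z' := (Bf_swap S z' z').symm
  obtain ⟨t, ht⟩ := exists_trace_one_E S
  refine ⟨z' + (-(t * Bf S z' z')) • x, ?_, ?_, ?_⟩
  · rw [Bf_add_left, Bf_add_right, Bf_add_right, Bf_smul_left, Bf_smul_left, Bf_smul_right, Bf_smul_right, hxx, h1,
      h2, map_neg, map_mul, hzz]
    linear_combination -(Bf S z' z') * ht
  · rw [Bf_add_right, Bf_smul_right, hxx, mul_zero, add_zero, h2]
  · rw [Bf_add_left, Bf_smul_left, hxx, mul_zero, add_zero, h1]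

theorem exists_iso : ∃ v, v ≠ 0 ∧ Bf S v v = 0 := by
  haveI : FiniteDimensional E (ι → F) := Module.Finite.of_restrictScalars_finite F E (ι → F)
  by_contra hcon
  push Not at hcon
  obtain ⟨x, hx⟩ := CfsgLib.Perm.ExtField.exists_notMem_line (E := E) S.two_le (0 : ι → F)
  have hx0 : x ≠ 0 := fun h => hx (by rw [h]; exact Submodule.zero_mem _)
  obtain ⟨z, hz⟩ := CfsgLib.Perm.ExtField.exists_notMem_line (E := E) S.two_le x
  obtain ⟨y, hy⟩ : ∃ y, y = z - (Bf S z x / Bf S x x) • x := ⟨_, rfl⟩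
  have hy0 : y ≠ 0 := fun h => hz (by
    rw [h, eq_comm, sub_eq_zero] at hy
    rw [hy]
    exact Submodule.smul_mem _ _ (Submodule.mem_span_singleton_self x))
  have hxx := hcon x hx0
  have hyy := hcon y hy0
  have hyx : Bf S y x = 0 := by rw [hy, Bf_sub_left, Bf_smul_left, div_mul_cancel₀ _ hxx, sub_self]
  obtain ⟨a, ha⟩ := exists_norm_E S (d := -(Bf S x x) / Bf S y y) (by
    rw [map_div₀, map_neg, ← Bf_swap S, ← Bf_swap S])
  refine hcon (x + a • y) (fun h0 => hxx ?_) ?_
  · have h1 : Bf S (x + a • y) x = Bf S x x := by rw [Bf_add_left, Bf_smul_left, hyx, mul_zero, add_zero]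
    rw [← h1, h0, Bf_zero_left]
  · rw [Bf_add_left, Bf_add_right, Bf_add_right, Bf_smul_left, Bf_smul_left, Bf_smul_right, Bf_smul_right, hyx,
      Bf_swap_zero S hyx]
    rw [eq_div_iff hyy] at ha
    linear_combination ha

/-! ### Elements of `M` -/

theorem mem_of_lin (L : (ι → F) →ₗ[E] (ι → F)) (hiso : ∀ x y, Bf S (L x) (L y) = Bf S x y)
    (hdet : Algebra.norm F (LinearMap.det L) = 1) : ∃ g ∈ M, ∀ x, (g : Matrix ι ι F) *ᵥ x = L x := by
  haveI : FiniteDimensional E (ι → F) := Module.Finite.of_restrictScalars_finite F E (ι → F)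
  have hd : (LinearMap.toMatrix' (L.restrictScalars F)).det = 1 := by
    rw [LinearMap.det_toMatrix', LinearMap.det_restrictScalars, hdet]
  obtain ⟨g, hg⟩ : ∃ g : GL ι F, g = Matrix.GeneralLinearGroup.mkOfDetNeZero
      (LinearMap.toMatrix' (L.restrictScalars F)) (by rw [hd]; exact one_ne_zero) := ⟨_, rfl⟩
  have hgx : ∀ x, (g : Matrix ι ι F) *ᵥ x = L x := fun x => by
    rw [hg]
    exact LinearMap.toMatrix'_mulVec (L.restrictScalars F) x
  refine ⟨g, S.lin_le g (mem_isoU.2 fun x y => ?_) (by rw [hg]; exact hd) fun e x => ?_, hgx⟩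
  · rw [hgx, hgx, f_eq S, hiso, ← f_eq S]
  · rw [hgx, hgx, map_smul]

/-- `B · v` over `E` -/
noncomputable def Bfun (v : ι → F) : (ι → F) →ₗ[E] E where
  toFun x := Bf S x v
  map_add' x y := Bf_add_left S x y v
  map_smul' e x := Bf_smul_left S e x v

theorem Bfun_apply (v x : ι → F) : Bfun S v x = Bf S x v := rfl

/-- transvections over `E` -/
theorem exists_Tm {v : ι → F} (hv : Bf S v v = 0) {e : E} (he : τ e = -e) :
    ∃ g ∈ M, ∀ x, (g : Matrix ι ι F) *ᵥ x = x + (e * Bf S x v) • v := by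
  haveI : FiniteDimensional E (ι → F) := Module.Finite.of_restrictScalars_finite F E (ι → F)
  have hL : ∀ x, LinearMap.transvection (e • Bfun S v) v x = x + (e * Bf S x v) • v := fun x => by
    rw [LinearMap.transvection.apply]; rfl
  obtain ⟨g, hg, hgx⟩ := mem_of_lin S (LinearMap.transvection (e • Bfun S v) v) (fun x y => by
    rw [hL, hL, Bf_add_left, Bf_add_right, Bf_add_right, Bf_smul_left, Bf_smul_left, Bf_smul_right, Bf_smul_right, hv,
      map_mul, he, ← Bf_swap S]
    ring) (by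
    rw [LinearMap.transvection.det, LinearMap.smul_apply, Bfun_apply, hv, smul_zero, add_zero, map_one])
  exact ⟨g, hg, fun x => by rw [hgx, hL]⟩

end

end CfsgLib.Perm.Trans.Unit.Ext
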