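import Cfsg.Agent.Lib.Perm.Trans.UnitExt.Base
import Mathlib.FieldTheory.ChevalleyWarning

/-!
# Unitary extension fields: the descent

An isometry moving an isotropic line over `E` off the lines gives, by Chevalley–Warning and a descent on the rank of
the pairing of a line with the image of a line, an element of rank one normal form.
-/

set_option autoImplicit false
set_option linter.all false

namespace CfsgLib.Perm.Trans.Unit.Ext

open scoped Matrix
open Matrix Module Cfsg.Geo CfsgLib.Perm.Asch CfsgLib.Perm.Trans CfsgLib.Perm.Trans.Unit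

/-- finitely many polynomials with values in a fixed field of index two have a common non-trivial fixed zero -/
theorem cw_family {F : Type*} [Field F] [Fintype F] {σ : F ≃+* F} (hinv : ∀ a, σ (σ a) = a) {t : F}
    (ht : t + σ t = 1) {V J : Type*} [Fintype V] [Fintype J] (p : J → MvPolynomial V F)
    (hdeg : ∑ j, (p j).totalDegree < Fintype.card V)
    (hp : ∀ j, ∀ x : V → F, (∀ i, σ (x i) = x i) → σ (MvPolynomial.eval x (p j)) = MvPolynomial.eval x (p j))
    (hp0 : ∀ j, MvPolynomial.eval (0 : V → F) (p j) = 0) :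
    ∃ x : V → F, (∀ i, σ (x i) = x i) ∧ x ≠ 0 ∧ ∀ j, MvPolynomial.eval x (p j) = 0 := by
  classical
  let F₀ : Subfield F := RingHom.eqLocusField (σ : F →+* F) (RingHom.id F)
  let π : F → F₀ := fun a => ⟨t * a + σ (t * a), by
    show σ (t * a + σ (t * a)) = t * a + σ (t * a)
    rw [map_add, hinv, add_comm]⟩
  let res : MvPolynomial V F → MvPolynomial V F₀ := fun P =>
    ∑ d ∈ P.support, MvPolynomial.monomial d (π (P.coeff d))
  have hfix : ∀ (x : V → F₀) (i : V), σ (x i : F) = x i := fun x i => (x i).2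
  have hev : ∀ (P : MvPolynomial V F) (x : V → F₀),
      (∀ y : V → F, (∀ i, σ (y i) = y i) → σ (MvPolynomial.eval y P) = MvPolynomial.eval y P) →
      ((MvPolynomial.eval x (res P) : F₀) : F) = MvPolynomial.eval (fun i => (x i : F)) P := by
    intro P x hP
    have h1 : ((MvPolynomial.eval x (res P) : F₀) : F) =
        t * MvPolynomial.eval (fun i => (x i : F)) P + σ (t * MvPolynomial.eval (fun i => (x i : F)) P) := by
      show F₀.subtype (MvPolynomial.eval x (res P)) = _
      simp only [res, MvPolynomial.eval_eq (f := P), map_sum, MvPolynomial.eval_monomial, map_mul, Finset.mul_sum,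
        ← Finset.sum_add_distrib, map_finsuppProd, map_pow]
      refine Finset.sum_congr rfl fun d _ => ?_
      show (t * P.coeff d + σ (t * P.coeff d)) * (∏ i ∈ d.support, (x i : F) ^ d i) = _
      simp only [map_prod, map_pow, hfix, map_mul]
      ring
    rw [h1, map_mul, hP _ (hfix x), ← add_mul, ht, one_mul]
  have hdegle : ∀ P : MvPolynomial V F, (res P).totalDegree ≤ P.totalDegree := fun P =>
    (MvPolynomial.totalDegree_finsetSum _ _).trans (Finset.sup_le fun d hd =>
      (MvPolynomial.totalDegree_monomial_le d _).trans (MvPolynomial.le_totalDegree hd))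
  obtain ⟨ℓ, hℓ⟩ := CharP.exists F₀
  haveI : Fintype F₀ := Fintype.ofFinite _
  have hℓp : ℓ.Prime := CharP.char_is_prime F₀ ℓ
  have hdvd := char_dvd_card_solutions_of_fintype_sum_lt ℓ (f := fun j => res (p j))
    (lt_of_le_of_lt (Finset.sum_le_sum fun j _ => hdegle (p j)) hdeg)
  have h0 : ∀ j, MvPolynomial.eval (0 : V → F₀) (res (p j)) = 0 := fun j =>
    Subtype.ext ((hev (p j) 0 (hp j)).trans (hp0 j))
  have hne : Nonempty { x : V → F₀ // ∀ j, MvPolynomial.eval x (res (p j)) = 0 } := ⟨⟨0, h0⟩⟩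
  have h2 : 1 < Fintype.card { x : V → F₀ // ∀ j, MvPolynomial.eval x (res (p j)) = 0 } :=
    lt_of_lt_of_le hℓp.one_lt (Nat.le_of_dvd Fintype.card_pos hdvd)
  obtain ⟨⟨x, hx⟩, hxne⟩ := Fintype.exists_ne_of_one_lt_card h2 ⟨0, h0⟩
  refine ⟨fun i => (x i : F), hfix x, fun h => hxne (Subtype.ext (funext fun i => Subtype.ext (congrFun h i))),
    fun j => ?_⟩
  rw [← hev (p j) x (hp j), hx j, ZeroMemClass.coe_zero]

variable {ι : Type} [Fintype ι] [DecidableEq ι] {F : Type*} [Field F] [Fintype F]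
variable {E : Type*} [Field E] [Algebra F E] [FiniteDimensional F E]
variable [Module E (ι → F)] [IsScalarTower F E (ι → F)]
variable {σ : F ≃+* F} {τ : E ≃+* E} {f : (ι → F) → (ι → F) → F}
variable {M : Subgroup (GL ι F)} (S : UData τ σ f M)
include S

theorem exists_real_powers : ∃ θ : E, τ θ = θ ∧ θ ∉ (algebraMap F E).range ∧
    LinearIndependent F (fun i : Fin (finrank F E) => θ ^ (i : ℕ)) ∧
      Submodule.span F (Set.range fun i : Fin (finrank F E) => θ ^ (i : ℕ)) = ⊤ := by
  obtain ⟨θ, hθ, hθF⟩ := exists_real_notMem S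
  have hli : LinearIndependent F (fun i : Fin (finrank F E) => θ ^ (i : ℕ)) := by
    have h := linearIndependent_pow (K := F) θ
    rwa [natDegree_minpoly_of_prime S.prime hθF] at h
  haveI : Nonempty (Fin (finrank F E)) := ⟨⟨0, S.prime.pos⟩⟩
  exact ⟨θ, hθ, hθF, hli, hli.span_eq_top_of_card_eq_finrank (Fintype.card_fin _)⟩

theorem Bf_sum_left {V : Type*} (s : Finset V) (u : V → ι → F) (y : ι → F) :
    Bf S (∑ i ∈ s, u i) y = ∑ i ∈ s, Bf S (u i) y := by
  classical
  induction s using Finset.induction_on with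
  | empty => rw [Finset.sum_empty, Finset.sum_empty, Bf_zero_left]
  | insert a s ha ih => rw [Finset.sum_insert ha, Finset.sum_insert ha, Bf_add_left, ih]

theorem Bf_sum_right {V : Type*} (s : Finset V) (u : V → ι → F) (y : ι → F) :
    Bf S y (∑ i ∈ s, u i) = ∑ i ∈ s, Bf S y (u i) := by
  rw [Bf_swap S _ y, Bf_sum_left, map_sum]
  exact Finset.sum_congr rfl fun i _ => (Bf_swap S _ _).symm

/-- the image of an isotropic line contains an isotropic vector -/
theorem exists_iso_in_image {g : GL ι F} (hg : g ∈ M) {v : ι → F} (hv : Bf S v v = 0) :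
    ∃ p : E, p ≠ 0 ∧ Bf S ((g : Matrix ι ι F) *ᵥ (p • v)) ((g : Matrix ι ι F) *ᵥ (p • v)) = 0 := by
  classical
  obtain ⟨θ, hθ, -, hli, hspan⟩ := exists_real_powers S
  obtain ⟨c, hc⟩ := exists_not_fixed S.form
  obtain ⟨t, ht⟩ := exists_trace S.form (d := (1 : F)) (map_one σ)
  let k : Bool → F := fun b => if b then c else 1
  let u : Fin (finrank F E) × Bool → ι → F := fun ib =>
    (g : Matrix ι ι F) *ᵥ ((k ib.2 • θ ^ (ib.1 : ℕ)) • v)
  let P : Fin (finrank F E - 1) → MvPolynomial (Fin (finrank F E) × Bool) F := fun j =>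
    ∑ a, ∑ b, MvPolynomial.C (tr F E (θ ^ ((j : ℕ) + 1) * Bf S (u a) (u b))) *
      (MvPolynomial.X a * MvPolynomial.X b)
  have hev : ∀ j x, (∀ i, σ (x i) = x i) → MvPolynomial.eval x (P j) =
      tr F E (θ ^ ((j : ℕ) + 1) * Bf S (∑ a, x a • u a) (∑ a, x a • u a)) := by
    intro j x hx
    simp only [P, map_sum, map_mul, MvPolynomial.eval_C, MvPolynomial.eval_X, Bf_sum_left, Bf_sum_right,
      Finset.mul_sum, Bf_fsmul_left, Bf_fsmul_right, hx, mul_smul_comm, map_smul, smul_eq_mul]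
    rw [Finset.sum_comm]
    exact Finset.sum_congr rfl fun a _ => Finset.sum_congr rfl fun b _ => by ring
  obtain ⟨x, hx, hx0, hxz⟩ := cw_family (σ := σ) S.form.involutive ht P (by
    refine lt_of_le_of_lt (Finset.sum_le_card_nsmul _ _ 2 fun j _ => ?_) ?_
    · refine (MvPolynomial.totalDegree_finsetSum _ _).trans (Finset.sup_le fun a _ => ?_)
      refine (MvPolynomial.totalDegree_finsetSum _ _).trans (Finset.sup_le fun b _ => ?_)
      refine (MvPolynomial.totalDegree_mul _ _).trans ?_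
      rw [MvPolynomial.totalDegree_C, zero_add]
      refine (MvPolynomial.totalDegree_mul _ _).trans ?_
      rw [MvPolynomial.totalDegree_X, MvPolynomial.totalDegree_X]
    · simp only [Finset.card_univ, Fintype.card_fin, Fintype.card_prod, Fintype.card_bool, smul_eq_mul]
      have := S.prime.two_le
      omega) (fun j x hx => by
      rw [hev j x hx, tr_fixed S]
      rw [map_mul, map_pow, hθ, ← Bf_swap S]) (fun j => by
      rw [hev j 0 fun i => map_zero σ]
      simp [Bf_zero_left])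
  obtain ⟨p, hp⟩ : ∃ p : E, p = ∑ a, x a • (k a.2 • θ ^ (a.1 : ℕ)) := ⟨_, rfl⟩
  have hy : ∑ a, x a • u a = (g : Matrix ι ι F) *ᵥ (p • v) := by
    rw [hp, Finset.sum_smul, Matrix.mulVec_sum]
    exact Finset.sum_congr rfl fun a _ => by rw [smul_assoc, mulVec_smul]
  refine ⟨p, fun h0 => hx0 ?_, ?_⟩
  · rw [hp, Fintype.sum_prod_type] at h0
    simp only [Fintype.sum_bool, k, if_true, Bool.false_eq_true, if_false, smul_smul, ← add_smul, mul_one] at h0
    have h1 := Fintype.linearIndependent_iff.1 hli _ h0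
    funext ⟨i, b⟩
    have h2 := congrArg σ (h1 i)
    rw [map_add, map_mul, hx, hx, map_zero] at h2
    have h3 : x (i, true) * (c - σ c) = 0 := by linear_combination h1 i - h2
    have h4 := (mul_eq_zero.1 h3).resolve_right (sub_ne_zero.2 (Ne.symm hc))
    cases b
    · have h5 := h1 i
      rw [h4, zero_mul, zero_add] at h5
      exact h5
    · exact h4
  · refine tr_ext (F := F) fun q => ?_
    have hker : Submodule.span F (Set.range fun i : Fin (finrank F E) => θ ^ (i : ℕ)) ≤
        LinearMap.ker ((tr F E).comp (LinearMap.mulRight F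
          (Bf S ((g : Matrix ι ι F) *ᵥ (p • v)) ((g : Matrix ι ι F) *ᵥ (p • v))))) := by
      rw [Submodule.span_le]
      rintro _ ⟨⟨i, hi⟩, rfl⟩
      show tr F E (θ ^ i * _) = 0
      rcases i with _ | i
      · rw [pow_zero, one_mul, ← f_eq S, mem_isoU.1 (S.le hg), isotropic_line S hv]
      · have := hxz ⟨i, by omega⟩
        rwa [hev _ x hx, hy] at this
    rw [hspan] at hker
    rw [mul_zero, map_zero]
    exact hker (Submodule.mem_top (x := q))

/-- the pairing of the image of the line of `v` with the line of `u` -/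
noncomputable def pairMap (g : GL ι F) (v u : ι → F) : E →ₗ[F] E where
  toFun p := Bf S ((g : Matrix ι ι F) *ᵥ (p • v)) u
  map_add' p q := by rw [add_smul, mulVec_add, Bf_add_left]
  map_smul' c p := by rw [smul_assoc, mulVec_smul, Bf_fsmul_left]; rfl

theorem pairMap_apply (g : GL ι F) (v u : ι → F) (p : E) :
    pairMap S g v u p = Bf S ((g : Matrix ι ι F) *ᵥ (p • v)) u := rfl

/-- a partial pairing -/
def Bad (g : GL ι F) (v u : ι → F) : Prop :=
  g ∈ M ∧ Bf S v v = 0 ∧ Bf S u u = 0 ∧ pairMap S g v u ≠ 0 ∧ LinearMap.ker (pairMap S g v u) ≠ ⊥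

theorem exists_bad {g : GL ι F} (hg : g ∈ M) {v : ι → F} (hv : Bf S v v = 0) {e : E}
    (h : (g : Matrix ι ι F) *ᵥ (e • v) ∉ Submodule.span E {(g : Matrix ι ι F) *ᵥ v}) :
    ∃ v u, Bad S g v u := by
  obtain ⟨p, hp0, hp⟩ := exists_iso_in_image S hg hv
  obtain ⟨v', hv'⟩ : ∃ v', v' = p • v := ⟨_, rfl⟩
  rw [← hv'] at hp
  obtain ⟨x, hx⟩ : ∃ x, x = (g : Matrix ι ι F) *ᵥ v' := ⟨_, rfl⟩
  rw [← hx] at hp
  have hv'v : Bf S v' v' = 0 := by rw [hv', Bf_smul_left, Bf_smul_right, hv, mul_zero, mul_zero]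
  obtain ⟨e', he'⟩ : ∃ e' : E, (g : Matrix ι ι F) *ᵥ (e' • v') ∉ Submodule.span E {x} := by
    by_contra hcon
    push Not at hcon
    have h1 : ∀ q : E, (g : Matrix ι ι F) *ᵥ (q • v) ∈ Submodule.span E {x} := fun q => by
      have := hcon (q / p)
      rwa [hv', smul_smul, div_mul_cancel₀ _ hp0] at this
    obtain ⟨a, ha⟩ := Submodule.mem_span_singleton.1 (h1 1)
    rw [one_smul] at ha
    by_cases ha0 : a = 0
    · rw [ha0, zero_smul, eq_comm] at ha
      have hv0 : v = 0 := by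
        rw [← gl_inv_mulVec g v, ha, mulVec_zero]
      refine h ?_
      rw [hv0, smul_zero, mulVec_zero]
      exact Submodule.zero_mem _
    · refine h ?_
      obtain ⟨b, hb⟩ := Submodule.mem_span_singleton.1 (h1 e)
      refine Submodule.mem_span_singleton.2 ⟨b / a, ?_⟩
      rw [← hb, ← ha, smul_smul, div_mul_cancel₀ _ ha0]
  by_cases hB : ∃ q : E, Bf S ((g : Matrix ι ι F) *ᵥ (q • v')) x ≠ 0
  · obtain ⟨q, hq⟩ := hB
    refine ⟨v', x, hg, hv'v, hp, fun h0 => hq ?_, fun h0 => ?_⟩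
    · rw [← pairMap_apply S g v' x q, h0]; rfl
    · have h1 : (1 : E) ∈ LinearMap.ker (pairMap S g v' x) := by
        rw [LinearMap.mem_ker, pairMap_apply, one_smul, ← hx, hp]
      rw [h0, Submodule.mem_bot] at h1
      exact one_ne_zero h1
  · push Not at hB
    obtain ⟨y, hy⟩ : ∃ y, y = (g : Matrix ι ι F) *ᵥ (e' • v') := ⟨_, rfl⟩
    rw [← hy] at he'
    have hx0 : x ≠ 0 := fun h0 => he' (by
      rw [hy, show v' = 0 by rw [← gl_inv_mulVec g v', ← hx, h0, mulVec_zero], smul_zero, mulVec_zero]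
      exact Submodule.zero_mem _)
    have hxy : Bf S x y = 0 := Bf_swap_zero S (by rw [hy]; exact hB e')
    obtain ⟨u, huu, huy, hux⟩ := exists_iso_sep S hp hxy fun hm => by
      obtain ⟨a, ha⟩ := Submodule.mem_span_singleton.1 hm
      have ha0 : a ≠ 0 := fun h0 => hx0 (by rw [← ha, h0, zero_smul])
      exact he' (Submodule.mem_span_singleton.2 ⟨a⁻¹, by rw [← ha, smul_smul, inv_mul_cancel₀ ha0, one_smul]⟩)
    refine ⟨v', u, hg, hv'v, huu, fun h0 => hux (Bf_swap_zero S ?_), fun h0 => ?_⟩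
    · rw [show x = (g : Matrix ι ι F) *ᵥ ((1 : E) • v') by rw [one_smul, hx], ← pairMap_apply, h0]
      rfl
    · have h1 : e' ∈ LinearMap.ker (pairMap S g v' u) := by
        rw [LinearMap.mem_ker, pairMap_apply, ← hy, Bf_swap_zero S huy]
      rw [h0, Submodule.mem_bot] at h1
      refine he' ?_
      rw [hy, h1, zero_smul, mulVec_zero]
      exact Submodule.zero_mem _

/-- the element `g⁻¹ a g` and its pairing of a line with itself -/
theorem descent {g : GL ι F} {v u : ι → F} (h : Bad S g v u) {e : E} (he : τ e = -e) :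
    ∃ g' ∈ M, (∀ p : E, (g' : Matrix ι ι F) *ᵥ (p • v) =
        p • v + ((g⁻¹ : GL ι F) : Matrix ι ι F) *ᵥ ((e * pairMap S g v u p) • u)) ∧
      ∀ p q : E, tr F E (τ q * pairMap S g' v v p) =
        tr F E (e * (pairMap S g v u p * τ (pairMap S g v u q))) := by
  obtain ⟨a, ha, hax⟩ := exists_Tm S h.2.2.1 he
  have hform : ∀ p : E, ((g⁻¹ * a * g : GL ι F) : Matrix ι ι F) *ᵥ (p • v) =
        p • v + ((g⁻¹ : GL ι F) : Matrix ι ι F) *ᵥ ((e * pairMap S g v u p) • u) := fun p => by
    rw [gl_mul_mulVec, gl_mul_mulVec, hax, mulVec_add, gl_inv_mulVec, pairMap_apply]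
  refine ⟨g⁻¹ * a * g, M.mul_mem (M.mul_mem (M.inv_mem h.1) ha) h.1, hform, fun p q => ?_⟩
  have hgi := mem_isoU.1 (S.le h.1)
  rw [pairMap_apply S (g⁻¹ * a * g), hform, Bf_add_left, Bf_smul_left, h.2.1, mul_zero, zero_add, tr_Bf,
    S.adj, S.tau_inv, ← hgi _ (q • v), gl_mulVec_inv, f_eq S, Bf_smul_left, Bf_swap S _ u, ← pairMap_apply,
    mul_assoc]

/-- **The descent.** -/
theorem exists_rank_one {g : GL ι F} {v u : ι → F} (h : Bad S g v u) :
    ∃ (g : GL ι F) (v u : ι → F) (a : E) (φ : E →ₗ[F] F), Bad S g v u ∧ a ≠ 0 ∧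
      ∀ p, pairMap S g v u p = φ p • a := by
  classical
  have hex : ∃ k, ∃ (g : GL ι F) (v u : ι → F), Bad S g v u ∧
      finrank F (LinearMap.range (pairMap S g v u)) = k := ⟨_, g, v, u, h, rfl⟩
  obtain ⟨g₀, v₀, u₀, h₀, hk⟩ := Nat.find_spec hex
  set P := pairMap S g₀ v₀ u₀ with hP
  set R := LinearMap.range P with hR
  have hdich : ∀ e : E, τ e = -e → (∀ p q, tr F E (e * (P p * τ (P q))) = 0) ∨
      ∀ p, (∀ q, tr F E (e * (P p * τ (P q))) = 0) → P p = 0 := by
    intro e he
    by_contra hcon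
    push Not at hcon
    obtain ⟨⟨p₁, q₁, h1⟩, p₂, h2, h3⟩ := hcon
    obtain ⟨g', hg', -, htr⟩ := descent S h₀ he
    have hne : pairMap S g' v₀ v₀ ≠ 0 := fun h0 => h1 (by
      have := htr p₁ q₁
      rw [h0, LinearMap.zero_apply, mul_zero, map_zero, eq_comm] at this
      exact this)
    have hp2 : p₂ ∈ LinearMap.ker (pairMap S g' v₀ v₀) := LinearMap.mem_ker.2 (tr_ext (F := F) fun q => by
      rw [← S.tau_inv q, mul_zero, map_zero, htr, h2])
    have hle : LinearMap.ker P ≤ LinearMap.ker (pairMap S g' v₀ v₀) := fun p hp =>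
      LinearMap.mem_ker.2 (tr_ext (F := F) fun q => by
        rw [← S.tau_inv q, htr, LinearMap.mem_ker.1 hp, zero_mul, mul_zero, mul_zero])
    have hlt : LinearMap.ker P < LinearMap.ker (pairMap S g' v₀ v₀) :=
      lt_of_le_of_ne hle fun he => h3 (LinearMap.mem_ker.1 (he ▸ hp2))
    have hbad : Bad S g' v₀ v₀ :=
      ⟨hg', h₀.2.1, h₀.2.1, hne, fun h0 => h₀.2.2.2.2 (le_bot_iff.1 (h0 ▸ hle))⟩
    have hmin := Nat.find_min' hex ⟨g', v₀, v₀, hbad, rfl⟩
    have r1 := LinearMap.finrank_range_add_finrank_ker P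
    have r2 := LinearMap.finrank_range_add_finrank_ker (pairMap S g' v₀ v₀)
    have r3 := Submodule.finrank_lt_finrank_of_lt hlt
    have hk' : finrank F (LinearMap.range P) = Nat.find hex := hk
    omega
  obtain ⟨p₀, hp₀⟩ : ∃ p, P p ≠ 0 := by
    by_contra hcon
    push Not at hcon
    exact h₀.2.2.2.1 (LinearMap.ext hcon)
  obtain ⟨Sp, hSp⟩ : ∃ Sp, Sp = Submodule.span F (Set.range fun pq : E × E => P pq.1 * τ (P pq.2)) := ⟨_, rfl⟩
  have hSpmem : ∀ p q, P p * τ (P q) ∈ Sp := fun p q => hSp ▸ Submodule.subset_span ⟨(p, q), rfl⟩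
  -- the products span a space of dimension at most that of the range
  have hSle : finrank F Sp ≤ finrank F R := by
    by_contra hlt
    push Not at hlt
    let Φ : E →ₗ[F] Module.Dual F Sp := (Sp.subtype.dualMap).comp (trDual F E : E ≃ₗ[F] Module.Dual F E).toLinearMap
    have hΦ : ∀ (e : E) (z : Sp), Φ e z = tr F E ((z : E) * e) := fun e z => rfl
    have hΦs : Function.Surjective Φ :=
      (LinearMap.dualMap_surjective_of_injective Sp.injective_subtype).comp (trDual F E).surjective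
    have hspan : Submodule.span F (Φ '' {e | τ e = e}) = ⊤ := by
      rw [Submodule.eq_top_iff']
      intro φ
      obtain ⟨e, rfl⟩ := hΦs φ
      obtain ⟨c, hc⟩ := exists_not_fixed S.form
      obtain ⟨a, b, ha, hb, he, -⟩ := exists_real_decomp S hc e
      rw [he, map_add, map_smul]
      exact Submodule.add_mem _ (Submodule.subset_span ⟨a, ha, rfl⟩)
        (Submodule.smul_mem _ _ (Submodule.subset_span ⟨b, hb, rfl⟩))
    obtain ⟨B, hB, hBspan, hBli⟩ := exists_linearIndependent F (Φ '' {e | τ e = e})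
    haveI : Finite B := hBli.finite
    haveI : Fintype B := Fintype.ofFinite B
    have hcard : finrank F R < Fintype.card B := by
      have h1 := finrank_span_eq_card hBli
      rw [Subtype.range_coe_subtype, Set.setOf_mem_eq, hBspan, hspan, finrank_top, Subspace.dual_finrank_eq] at h1
      rw [h1] at hlt
      exact hlt.trans_le (le_of_eq (Fintype.card_congr (Equiv.refl _)))
    choose ev hev' hevb using fun b : B => hB b.2
    have hev : ∀ b, τ (ev b) = ev b := hev'
    obtain ⟨bR, -⟩ : ∃ bR : Basis (Fin (finrank F R)) F R, True := ⟨Module.finBasis F R, trivial⟩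
    let H : B → Matrix (Fin (finrank F R)) (Fin (finrank F R)) F := fun b =>
      Matrix.of fun i j => tr F E (ev b * ((bR i : E) * τ (bR j : E)))
    let G : Matrix (Fin (finrank F R)) (Fin (finrank F R)) (MvPolynomial B F) :=
      Matrix.of fun i j => ∑ b, MvPolynomial.C (H b i j) * MvPolynomial.X b
    have hdetev : ∀ x, MvPolynomial.eval x G.det = (∑ b, x b • H b).det := fun x => by
      rw [RingHom.map_det]
      congr 1
      ext i j
      simp only [G, RingHom.mapMatrix_apply, Matrix.map_apply, Matrix.of_apply, map_sum, map_mul, MvPolynomial.eval_C,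
        MvPolynomial.eval_X, Matrix.sum_apply, Matrix.smul_apply, smul_eq_mul]
      exact Finset.sum_congr rfl fun b _ => mul_comm _ _
    obtain ⟨t, ht⟩ := exists_trace S.form (d := (1 : F)) (map_one σ)
    obtain ⟨x, hx, hx0, hxG⟩ := cw_family (σ := σ) S.form.involutive ht (fun _ : _root_.Unit => G.det) (by
      simp only [Finset.univ_unique, Finset.sum_singleton]
      refine lt_of_le_of_lt ?_ hcard
      rw [Matrix.det_apply]
      refine (MvPolynomial.totalDegree_finsetSum _ _).trans (Finset.sup_le fun π _ => ?_)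
      refine (MvPolynomial.totalDegree_smul_le _ _).trans ((MvPolynomial.totalDegree_finsetProd _ _).trans ?_)
      refine (Finset.sum_le_sum fun i _ => show _ ≤ 1 from ?_).trans (by simp)
      simp only [G, Matrix.of_apply]
      refine (MvPolynomial.totalDegree_finsetSum _ _).trans (Finset.sup_le fun v _ => ?_)
      refine (MvPolynomial.totalDegree_mul _ _).trans ?_
      rw [MvPolynomial.totalDegree_C, MvPolynomial.totalDegree_X]) (fun _ x hx => by
      rw [hdetev]
      have e1 : (∑ b, x b • H b).map σ = (∑ b, x b • H b)ᵀ := by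
        ext i j
        simp only [H, Matrix.map_apply, Matrix.transpose_apply, Matrix.sum_apply, Matrix.smul_apply, Matrix.of_apply,
          map_sum, smul_eq_mul, map_mul, hx, ← tr_tau S, hev _, S.tau_inv]
        exact Finset.sum_congr rfl fun b _ => by rw [mul_comm (τ (bR i : E))]
      rw [show σ (∑ b, x b • H b).det = ((∑ b, x b • H b).map σ).det from RingEquiv.map_det σ _, e1,
        Matrix.det_transpose]) (fun _ => by
      rw [hdetev]
      haveI : Nonempty (Fin (finrank F R)) := ⟨⟨0, Module.finrank_pos_iff.2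
        ⟨⟨P p₀, ⟨p₀, rfl⟩⟩, 0, fun h => hp₀ (congrArg Subtype.val h)⟩⟩⟩
      simp)
    obtain ⟨e, he⟩ : ∃ e, e = ∑ b, x b • ev b := ⟨_, rfl⟩
    have hτe : τ e = e := by
      rw [he, map_sum]
      exact Finset.sum_congr rfl fun b _ => by rw [tau_smul S, hx, hev]
    have hΦe : Φ e ≠ 0 := fun h0 => hx0 (funext fun b => by
      rw [he, map_sum] at h0
      refine Fintype.linearIndependent_iff.1 hBli x ?_ b
      rw [← h0]
      exact Finset.sum_congr rfl fun b _ => by rw [map_smul, hevb])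
    obtain ⟨s, hs, hsσ⟩ := exists_trace_zero S.form
    have hanti : τ (s • e) = -(s • e) := by rw [tau_smul S, hsσ, hτe, neg_smul]
    rcases hdich (s • e) hanti with h4 | h4
    · refine hΦe (LinearMap.ext fun z => ?_)
      rw [hΦ, LinearMap.zero_apply]
      have hle : Sp ≤ LinearMap.ker ((tr F E).comp (LinearMap.mulRight F e)) := by
        rw [hSp, Submodule.span_le]
        rintro _ ⟨⟨p, q⟩, rfl⟩
        have h5 := h4 p q
        rw [smul_mul_assoc, map_smul, smul_eq_zero] at h5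
        show tr F E (P p * τ (P q) * e) = 0
        rw [mul_comm]
        exact h5.resolve_left hs
      exact hle z.2
    · have hdet := hxG ()
      rw [hdetev, ← Matrix.exists_vecMul_eq_zero_iff] at hdet
      obtain ⟨w, hw0, hw⟩ := hdet
      obtain ⟨z, hz⟩ : ∃ z : R, z = ∑ i, w i • bR i := ⟨_, rfl⟩
      have hz0 : z ≠ 0 := fun h0 => hw0 (funext fun i =>
        Fintype.linearIndependent_iff.1 bR.linearIndependent w (hz.symm.trans h0) i)
      obtain ⟨p, hp⟩ := z.2
      have hzb : ∀ j, tr F E (e * ((z : E) * τ (bR j : E))) = 0 := fun j => by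
        have h5 := congrFun hw j
        simp only [Matrix.vecMul, dotProduct, Matrix.sum_apply, Matrix.smul_apply, H, Matrix.of_apply,
          smul_eq_mul, Pi.zero_apply] at h5
        rw [hz, Submodule.coe_sum, Finset.sum_mul, Finset.mul_sum, map_sum, ← h5]
        refine Finset.sum_congr rfl fun i _ => ?_
        rw [Submodule.coe_smul, smul_mul_assoc, mul_smul_comm, map_smul, smul_eq_mul, he, Finset.sum_mul, map_sum]
        congr 1
        exact Finset.sum_congr rfl fun b _ => by rw [smul_mul_assoc, map_smul, smul_eq_mul]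
      refine hz0 (Subtype.ext ?_)
      show (z : E) = 0
      rw [← hp]
      refine h4 p fun q => ?_
      have hq : (⟨P q, ⟨q, rfl⟩⟩ : R) ∈ Submodule.span F (Set.range bR) := by
        rw [bR.span_eq]; exact Submodule.mem_top
      obtain ⟨d, hd⟩ := Submodule.mem_span_range_iff_exists_fun F |>.1 hq
      have hPq : P q = ∑ j, d j • (bR j : E) := by
        have h6 := congrArg Subtype.val hd
        rw [Submodule.coe_sum] at h6
        refine h6.symm.trans ?_
        exact Finset.sum_congr rfl fun j _ => Submodule.coe_smul _ _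
      rw [hPq, map_sum, Finset.mul_sum, Finset.mul_sum, map_sum]
      refine Finset.sum_eq_zero fun j _ => ?_
      rw [tau_smul S, mul_smul_comm, mul_smul_comm, smul_mul_assoc, map_smul, map_smul, hp, hzb, smul_zero,
        smul_zero]
  have hprod : ∀ p₁ p q : E, P p₁ ≠ 0 → ∃ s, P p * τ (P q) = P s * τ (P p₁) := by
    intro p₁ p q hp₁
    obtain ⟨T, hT⟩ : ∃ T : Submodule F E, T = R.map (LinearMap.mulRight F (τ (P p₁))) := ⟨_, rfl⟩
    have hTle : T ≤ Sp := by
      rw [hT]
      rintro _ ⟨_, ⟨s, rfl⟩, rfl⟩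
      exact hSpmem s p₁
    have hTdim : finrank F T = finrank F R := by
      rw [hT]
      exact (Submodule.equivMapOfInjective _ (fun a b hab => mul_right_cancel₀
        (fun h0 => hp₁ ((map_eq_zero_iff τ τ.injective).1 h0)) hab) R).finrank_eq.symm
    have hEq : T = Sp := Submodule.eq_of_le_of_finrank_le hTle (hTdim ▸ hSle)
    have h1 := hSpmem p q
    rw [← hEq, hT] at h1
    obtain ⟨_, ⟨s, rfl⟩, hs⟩ := h1
    exact ⟨s, hs.symm⟩
  let A : Submodule F E := R.map (LinearMap.mulLeft F (P p₀)⁻¹)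
  have hmem : ∀ x, x ∈ A ↔ ∃ p, x = (P p₀)⁻¹ * P p := fun x =>
    ⟨fun ⟨_, ⟨p, rfl⟩, hx⟩ => ⟨p, hx.symm⟩, fun ⟨p, hx⟩ => ⟨P p, ⟨p, rfl⟩, hx.symm⟩⟩
  have hone : (1 : E) ∈ A := (hmem 1).2 ⟨p₀, (inv_mul_cancel₀ hp₀).symm⟩
  have hτp₀ : τ (P p₀) ≠ 0 := fun h0 => hp₀ ((map_eq_zero_iff τ τ.injective).1 h0)
  have hmul' : ∀ x y, x ∈ A → y ∈ A → x * τ y ∈ A := by
    intro x y hx hy
    obtain ⟨p, rfl⟩ := (hmem x).1 hx
    obtain ⟨q, rfl⟩ := (hmem y).1 hy
    obtain ⟨s, hs⟩ := hprod p₀ p q hp₀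
    refine (hmem _).2 ⟨s, ?_⟩
    rw [map_mul, map_inv₀, mul_mul_mul_comm, hs]
    field_simp
  have hmul : ∀ x y, x ∈ A → y ∈ A → x * y ∈ A := by
    intro x y hx hy
    have := hmul' x (1 * τ y) hx (hmul' 1 y hone hy)
    rwa [one_mul, S.tau_inv] at this
  haveI := Subalgebra.isSimpleOrder_of_finrank_prime F E S.prime
  rcases IsSimpleOrder.eq_bot_or_eq_top (A.toSubalgebra hone hmul) with hA | hA
  · have hscal : ∀ p, ∃ c : F, P p = c • P p₀ := fun p => by
      have h1 : (P p₀)⁻¹ * P p ∈ A.toSubalgebra hone hmul := (hmem _).2 ⟨p, rfl⟩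
      rw [hA, Algebra.mem_bot] at h1
      obtain ⟨c, hc⟩ := h1
      exact ⟨c, by rw [Algebra.smul_def, hc, mul_comm (P p₀)⁻¹, inv_mul_cancel_right₀ hp₀]⟩
    choose c hc using hscal
    refine ⟨g₀, v₀, u₀, P p₀,
      { toFun := c
        map_add' := fun p q => smul_left_injective F hp₀ (by
          show c (p + q) • P p₀ = (c p + c q) • P p₀
          rw [add_smul, ← hc, ← hc, ← hc, map_add])
        map_smul' := fun s p => smul_left_injective F hp₀ (by
          show c (s • p) • P p₀ = (s * c p) • P p₀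
          rw [mul_smul, ← hc, ← hc, map_smul]) }, h₀, hp₀, hc⟩
  · exfalso
    have hsurj : Function.Surjective P := fun y => by
      have h1 : (P p₀)⁻¹ * y ∈ A.toSubalgebra hone hmul := hA ▸ Algebra.mem_top
      obtain ⟨p, hp⟩ := (hmem _).1 h1
      exact ⟨p, (mul_left_cancel₀ (inv_ne_zero hp₀) hp).symm⟩
    exact h₀.2.2.2.2 (LinearMap.ker_eq_bot.2 (LinearMap.injective_iff_surjective.2 hsurj))

/-- the rank one normal form -/
structure State (g : GL ι F) (v w : ι → F) (β : E) (s : F) : Prop where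
  mem : g ∈ M
  v_ne : v ≠ 0
  v_iso : Bf S v v = 0
  β_ne : β ≠ 0
  s_ne : s ≠ 0
  s_anti : σ s = -s
  pair : Bf S w v = s • β
  act : ∀ p : E, (g : Matrix ι ι F) *ᵥ (p • v) = p • v + tr F E (p * τ β) • w

/-- **The normal form.** -/
theorem exists_state {g : GL ι F} (hg : g ∈ M) {v : ι → F} (hv : Bf S v v = 0) {e : E}
    (h : (g : Matrix ι ι F) *ᵥ (e • v) ∉ Submodule.span E {(g : Matrix ι ι F) *ᵥ v}) :
    ∃ (g : GL ι F) (v w : ι → F) (β : E) (s : F), State S g v w β s := by
  obtain ⟨v', u, hu⟩ := exists_bad S hg hv h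
  obtain ⟨g₀, v₀, u₀, a, φ, h₀, ha, hφ⟩ := exists_rank_one S hu
  obtain ⟨p₁, hp₁⟩ : ∃ p, φ p ≠ 0 := by
    by_contra hcon
    push Not at hcon
    exact h₀.2.2.2.1 (LinearMap.ext fun p => by rw [hφ, hcon, zero_smul]; rfl)
  obtain ⟨s₀, hs₀, hs₀σ⟩ := exists_trace_zero S.form
  obtain ⟨e₀, he₀, hne⟩ := exists_tr_real S (a := a * τ a)
    (mul_ne_zero ha fun h0 => ha ((map_eq_zero_iff τ τ.injective).1 h0))
  have hanti : τ (s₀ • e₀) = -(s₀ • e₀) := by rw [tau_smul S, hs₀σ, he₀, neg_smul]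
  obtain ⟨c, hc⟩ : ∃ c, c = tr F E ((s₀ • e₀) * (a * τ a)) := ⟨_, rfl⟩
  have hc0 : c ≠ 0 := by rw [hc, smul_mul_assoc, map_smul, smul_eq_mul]; exact mul_ne_zero hs₀ hne
  have hcσ : σ c = -c := by
    rw [hc, ← tr_tau S, show τ ((s₀ • e₀) * (a * τ a)) = -((s₀ • e₀) * (a * τ a)) by
      rw [map_mul, hanti, map_mul, S.tau_inv]; ring, map_neg]
  have hσc : σ c ≠ 0 := by rw [hcσ]; exact neg_ne_zero.2 hc0
  obtain ⟨g', hg', hform, htr⟩ := descent S h₀ hanti
  obtain ⟨w, hw⟩ : ∃ w, w = ((g₀⁻¹ : GL ι F) : Matrix ι ι F) *ᵥ (((s₀ • e₀) * a) • u₀) := ⟨_, rfl⟩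
  have hform' : ∀ p : E, (g' : Matrix ι ι F) *ᵥ (p • v₀) = p • v₀ + φ p • w := fun p => by
    rw [hform, hφ, mul_smul_comm, smul_assoc, mulVec_smul, hw]
  obtain ⟨β, hβ⟩ : ∃ β, β = Bf S w v₀ := ⟨_, rfl⟩
  have hφβ : ∀ q, φ q = (σ c)⁻¹ * tr F E (q * τ β) := fun q => by
    have h1 := htr p₁ q
    rw [pairMap_apply, hform', Bf_add_left, Bf_smul_left, h₀.2.1, mul_zero, zero_add, Bf_fsmul_left, ← hβ, hφ, hφ,
      tau_smul S, mul_smul_comm, map_smul, smul_eq_mul, smul_mul_smul_comm, mul_smul_comm, map_smul, ← hc,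
      smul_eq_mul, mul_assoc] at h1
    have h2 := congrArg σ (mul_left_cancel₀ hp₁ h1)
    rw [← tr_tau S, show τ (τ q * β) = q * τ β by rw [map_mul, S.tau_inv], map_mul σ, S.form.involutive] at h2
    rw [h2, mul_comm (φ q), ← mul_assoc, inv_mul_cancel₀ hσc, one_mul]
  refine ⟨g', v₀, (σ c)⁻¹ • w, β, (σ c)⁻¹, hg', ?_, h₀.2.1, ?_, inv_ne_zero hσc, ?_, ?_, fun p => ?_⟩
  · intro hv0
    refine h₀.2.2.2.1 (LinearMap.ext fun p => ?_)
    rw [pairMap_apply, hv0, smul_zero, mulVec_zero, Bf_zero_left]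
    rfl
  · intro h0
    exact hp₁ (by rw [hφβ, h0, map_zero, mul_zero, map_zero, mul_zero])
  · rw [map_inv₀, hcσ, map_neg, hcσ, neg_neg, inv_neg, neg_neg]
  · rw [Bf_fsmul_left, hβ]
  · rw [hform', hφβ, smul_smul, mul_comm]

end CfsgLib.Perm.Trans.Unit.Ext
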