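import Cfsg.Agent.Lib.Perm.Trans.UnitExt.Descent
import Cfsg.Agent.Lib.Perm.Trans.UnitMax

/-!
# Unitary extension fields: a transvection

From the normal form, commutators give the symmetric elements of rank two on the rational form `E₀ β` of the image of
the line; rescaling gives a transvection when the fixed field has more than two elements, and with two elements
the scalar `1 / (β τ β)` is a transvection plus an alternating element.
-/

set_option autoImplicit false
set_option linter.all false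

namespace CfsgLib.Perm.Trans.Unit.Ext

open scoped Matrix
open Matrix Module Cfsg.Geo CfsgLib.Perm.Asch CfsgLib.Perm.Trans CfsgLib.Perm.Trans.Unit

variable {ι : Type} [Fintype ι] [DecidableEq ι] {F : Type*} [Field F] [Fintype F]
variable {E : Type*} [Field E] [Algebra F E] [FiniteDimensional F E]
variable [Module E (ι → F)] [IsScalarTower F E (ι → F)]
variable {σ : F ≃+* F} {τ : E ≃+* E} {f : (ι → F) → (ι → F) → F} {M : Subgroup (GL ι F)}

/-- `1 + N` lies in `M` -/
def Mem (M : Subgroup (GL ι F)) (N : (ι → F) → (ι → F)) : Prop :=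
  ∃ g ∈ M, ∀ x, (g : Matrix ι ι F) *ᵥ x = x + N x

theorem Mem.map_add {N : (ι → F) → (ι → F)} (h : Mem M N) (a b : ι → F) : N (a + b) = N a + N b := by
  obtain ⟨g, -, hg⟩ := h
  have h1 := hg (a + b)
  rw [mulVec_add, hg, hg, add_add_add_comm] at h1
  exact (add_left_cancel h1).symm

theorem Mem.add {N N' : (ι → F) → (ι → F)} (h : Mem M N) (h' : Mem M N') (hz : ∀ x, N (N' x) = 0) :
    Mem M (fun x => N x + N' x) := by
  have hadd := h.map_add
  obtain ⟨g, hgM, hg⟩ := h
  obtain ⟨k, hkM, hk⟩ := h'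
  exact ⟨g * k, M.mul_mem hgM hkM, fun x => by rw [gl_mul_mulVec, hk, hg, hadd, hz]; abel⟩

theorem Mem.congr {N N' : (ι → F) → (ι → F)} (h : Mem M N) (he : ∀ x, N x = N' x) : Mem M N' := by
  obtain ⟨g, hgM, hg⟩ := h
  exact ⟨g, hgM, fun x => by rw [hg, he]⟩

variable (S : UData τ σ f M)
include S

theorem has_of_mem {u : ι → F} (hu : f u u = 0) {d : F} (h : Mem M fun x => (d * f x u) • u) :
    Has M u (d • hv S.form u) := by
  obtain ⟨g, hgM, hg⟩ := h
  refine ⟨utv_orth S.form hu d, ?_⟩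
  rwa [show tv u (d • hv S.form u) (utv_orth S.form hu d) = g from gl_ext_vec fun x => by
    rw [tv_mulVec, hg, smul_dotProduct, hv_dot, smul_eq_mul]]

variable {g : GL ι F} {v w : ι → F} {β : E} {s : F}

/-- the map of the line onto its image -/
noncomputable def Gm (_st : State S g v w β s) : E →ₗ[F] (ι → F) where
  toFun p := (g : Matrix ι ι F) *ᵥ (p • v)
  map_add' p q := by rw [add_smul, mulVec_add]
  map_smul' c p := by rw [smul_assoc, mulVec_smul]; rfl

/-- its adjoint -/
noncomputable def Gd (_st : State S g v w β s) (x : ι → F) : E := Bf S (((g⁻¹ : GL ι F) : Matrix ι ι F) *ᵥ x) v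

variable (st : State S g v w β s)
include st

theorem Gm_apply (p : E) : Gm S st p = p • v + tr F E (p * τ β) • w := st.act p

theorem tr_Gd (q : E) (x : ι → F) : tr F E (τ q * Gd S st x) = f x (Gm S st q) := by
  rw [Gd, tr_Bf, S.adj, S.tau_inv, ← mem_isoU.1 (S.le st.mem), gl_mulVec_inv]
  rfl

theorem Gm_iso (p q : E) : f (Gm S st p) (Gm S st q) = 0 := by
  show f ((g : Matrix ι ι F) *ᵥ _) ((g : Matrix ι ι F) *ᵥ _) = 0
  rw [mem_isoU.1 (S.le st.mem), isotropic_line S st.v_iso]

theorem Gm_fix {h : E} (hh : tr F E (h * τ β) = 0) : Gm S st h = h • v := by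
  rw [Gm_apply, hh, zero_smul, add_zero]

theorem B_Gm (p : E) : Bf S (Gm S st p) v = (tr F E (p * τ β) * s) • β := by
  rw [Gm_apply, Bf_add_left, Bf_smul_left, st.v_iso, mul_zero, zero_add, Bf_fsmul_left, st.pair, smul_smul]

theorem Gd_Gm (p : E) : Gd S st (Gm S st p) = 0 := tr_ext (F := F) fun q => by
  rw [← S.tau_inv q, tr_Gd, Gm_iso S st, mul_zero, map_zero]

theorem mem_line {e : E} (he : τ e = -e) : Mem M fun x => Gm S st (e * Gd S st x) := by
  obtain ⟨t, ht, htx⟩ := exists_Tm S st.v_iso he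
  refine ⟨g * t * g⁻¹, M.mul_mem (M.mul_mem st.mem ht) (M.inv_mem st.mem), fun x => ?_⟩
  rw [gl_mul_mulVec, gl_mul_mulVec, htx, mulVec_add, gl_mulVec_inv]
  rfl

/-- **The commutators.** -/
theorem mem_pair {e e₁ : E} (he : τ e = -e) (he₁ : τ e₁ = e₁) (hh : tr F E ((e₁ * β) * τ β) = 0) :
    Mem M fun x => f x ((e₁ * β) • v) • Gm S st (e * β) - f x (Gm S st (e * β)) • ((e₁ * β) • v) +
      (tr F E ((e * β) * τ β) * f x ((e₁ * β) • v)) • ((e₁ * β) • v) := by
  obtain ⟨h, hhd⟩ : ∃ h, h = e₁ * β := ⟨_, rfl⟩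
  rw [← hhd] at hh ⊢
  obtain ⟨a, ha, hax⟩ := exists_Tm S st.v_iso (e := s⁻¹ • e₁)
    (by rw [tau_smul S, map_inv₀, st.s_anti, he₁, inv_neg, neg_smul])
  have haG : ∀ p, (a : Matrix ι ι F) *ᵥ Gm S st p = Gm S st p + tr F E (p * τ β) • (h • v) := fun p => by
    rw [hax, B_Gm, smul_mul_smul_comm, mul_left_comm, inv_mul_cancel₀ st.s_ne, mul_one, smul_assoc, hhd]
  obtain ⟨t, ht, htx⟩ := exists_Tm S st.v_iso he
  have hhG : Gm S st h = h • v := Gm_fix S st hh
  have hmain : ∀ x, Bf S ((((a * g)⁻¹ : GL ι F) : Matrix ι ι F) *ᵥ x) v = Gd S st x + f x (h • v) • β := by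
    intro x
    refine tr_ext (F := F) fun p => ?_
    obtain ⟨q, rfl⟩ : ∃ q, p = τ q := ⟨τ p, (S.tau_inv p).symm⟩
    rw [mul_add, map_add, tr_Gd, mul_smul_comm, map_smul, tr_Bf, S.adj, S.tau_inv,
      ← mem_isoU.1 (S.le (M.mul_mem ha st.mem)), gl_mulVec_inv, gl_mul_mulVec,
      show (g : Matrix ι ι F) *ᵥ (q • v) = Gm S st q from rfl, haG, herm_add_right S.form,
      herm_smul_right S.form, smul_eq_mul, ← tr_tau S, map_mul, S.tau_inv, mul_comm (f x (h • v))]
  have h1 : Mem M fun x => Gm S st (e * (Gd S st x + f x (h • v) • β)) +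
      tr F E (e * (Gd S st x + f x (h • v) • β) * τ β) • (h • v) := by
    refine ⟨a * g * t * (a * g)⁻¹,
      M.mul_mem (M.mul_mem (M.mul_mem ha st.mem) ht) (M.inv_mem (M.mul_mem ha st.mem)), fun x => ?_⟩
    rw [gl_mul_mulVec, gl_mul_mulVec, htx, mulVec_add, gl_mulVec_inv, hmain, gl_mul_mulVec,
      show (g : Matrix ι ι F) *ᵥ ((e * (Gd S st x + f x (h • v) • β)) • v) = Gm S st _ from rfl, haG]
  refine (h1.add (mem_line S st (e := -e) (by rw [map_neg, he])) fun x => ?_).congr fun x => ?_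
  · rw [← hhG, Gd_Gm, Gm_iso S st, zero_smul, add_zero, mul_zero, map_zero, zero_mul, map_zero, zero_smul, add_zero]
  · have e1 : tr F E (e * Gd S st x * τ β) = -f x (Gm S st (e * β)) := by
      rw [← tr_Gd S st, ← map_neg, map_mul τ, he]
      congr 1
      ring
    rw [mul_add, mul_smul_comm, map_add, map_smul, neg_mul, map_neg, add_mul, map_add, smul_mul_assoc, map_smul,
      e1, smul_eq_mul, add_smul, neg_smul, mul_comm (tr F E (e * β * τ β))]
    abel

/-- the symmetric elements of the rational form -/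
theorem mem_sym {e₀ e₁ : E} (he₀ : τ e₀ = e₀) (he₁ : τ e₁ = e₁) (hh : tr F E ((e₁ * β) * τ β) = 0) :
    Mem M fun x => (s * f x ((e₁ * β) • v)) • Gm S st (e₀ * β) + (s * f x (Gm S st (e₀ * β))) • ((e₁ * β) • v) +
      (s * (tr F E ((e₀ * β) * τ β) * f x ((e₁ * β) • v))) • ((e₁ * β) • v) := by
  refine (mem_pair S st (e := s • e₀) (by rw [tau_smul S, st.s_anti, he₀, neg_smul]) he₁ hh).congr fun x => ?_
  rw [smul_mul_assoc, map_smul, herm_smul_right S.form, st.s_anti, smul_smul, neg_mul, neg_smul, sub_neg_eq_add,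
    smul_mul_assoc, map_smul, smul_eq_mul, mul_comm (f x ((e₁ * β) • v)) s, mul_assoc]

theorem exists_e₁ : ∃ e₁ : E, τ e₁ = e₁ ∧ e₁ ≠ 0 ∧ tr F E ((e₁ * β) * τ β) = 0 := by
  have hlt : finrank F F < finrank F E := by rw [Module.finrank_self]; exact S.prime.one_lt
  obtain ⟨z, hz, hz0⟩ := Submodule.exists_mem_ne_zero_of_ne_bot
    (LinearMap.ker_ne_bot_of_finrank_lt (f := (tr F E).comp (LinearMap.mulRight F (β * τ β))) hlt)
  have hN : τ (β * τ β) = β * τ β := by rw [map_mul, S.tau_inv, mul_comm]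
  have hτz : τ z ∈ LinearMap.ker ((tr F E).comp (LinearMap.mulRight F (β * τ β))) := by
    show tr F E (τ z * (β * τ β)) = 0
    rw [← hN, ← map_mul, tr_tau S, show tr F E (z * (β * τ β)) = 0 from hz, map_zero]
  obtain ⟨c, hc⟩ := exists_not_fixed S.form
  obtain ⟨a, b, ha, hb, hab, hZ⟩ := exists_real_decomp S hc z
  obtain ⟨haZ, hbZ⟩ := hZ _ hz hτz
  by_cases ha0 : a = 0
  · refine ⟨b, hb, fun hb0 => hz0 (by rw [hab, ha0, hb0, smul_zero, add_zero]), ?_⟩
    rw [mul_assoc]; exact hbZ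
  · exact ⟨a, ha, ha0, by rw [mul_assoc]; exact haZ⟩

/-- fixed fields with more than two elements -/
theorem large {l : F} (hl : σ l = l) (hl0 : l ≠ 0) (hl1 : l ≠ 1) :
    ∃ u, u ≠ 0 ∧ Bf S u u = 0 ∧ u ∈ centres S.form M := by
  obtain ⟨e₁, he₁, h0, hh⟩ := exists_e₁ S st
  obtain ⟨e₀, he₀, hne⟩ := exists_tr_real S (a := β * τ β)
    (mul_ne_zero st.β_ne fun h0 => st.β_ne ((map_eq_zero_iff τ τ.injective).1 h0))
  rw [← mul_assoc] at hne
  obtain ⟨T, hT⟩ : ∃ T, T = tr F E (e₀ * β * τ β) := ⟨_, rfl⟩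
  rw [← hT] at hne
  have hTσ : σ T = T := by
    rw [hT, ← tr_tau S, map_mul τ, map_mul τ, S.tau_inv, he₀, mul_assoc, mul_comm (τ β), ← mul_assoc]
  obtain ⟨u, hu⟩ : ∃ u, u = (e₁ * β) • v := ⟨_, rfl⟩
  have huu : Bf S u u = 0 := by rw [hu, Bf_smul_left, Bf_smul_right, st.v_iso, mul_zero, mul_zero]
  have hfu : f u u = 0 := by rw [f_eq S, huu, map_zero]
  refine ⟨u, hu ▸ smul_ne_zero (mul_ne_zero h0 st.β_ne) st.v_ne, huu, hfu, fun d hd => has_of_mem S hfu ?_⟩
  obtain ⟨μ, hμ⟩ : ∃ μ, μ = d / (s * (T * (l - 1))) := ⟨_, rfl⟩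
  have hμσ : σ μ = μ := by
    rw [hμ, map_div₀, map_mul, map_mul, map_sub, map_one, hd, st.s_anti, hTσ, hl, neg_mul, neg_div_neg_eq]
  have hh' : tr F E ((l • e₁ * β) * τ β) = 0 := by rw [smul_mul_assoc, smul_mul_assoc, map_smul, hh, smul_zero]
  have h1 := mem_sym S st (e₀ := (-μ) • e₀) (by rw [tau_smul S, map_neg, hμσ, he₀]) he₁ hh
  have h2 := mem_sym S st (e₀ := (μ / l) • e₀) (by rw [tau_smul S, map_div₀, hμσ, hl, he₀]) (e₁ := l • e₁)
    (by rw [tau_smul S, hl, he₁]) hh'
  have hGu : Gm S st (e₁ * β) = u := hu ▸ Gm_fix S st hh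
  have hzero : ∀ p, f (Gm S st p) u = 0 := fun p => by rw [← hGu, Gm_iso S st]
  have hzero' : ∀ p, f u (Gm S st p) = 0 := fun p => herm_swap_zero S.form (hzero p)
  refine (h2.add h1 fun x => ?_).congr fun x => ?_
  · simp only [smul_mul_assoc, smul_assoc, map_smul, ← hu, S.form.add_left, S.form.smul_left,
      herm_smul_right S.form, Gm_iso S st, hzero, hzero', hfu, mul_zero, add_zero, zero_smul, smul_zero]
  · simp only [smul_mul_assoc, smul_assoc, map_smul, ← hu, herm_smul_right S.form, hl, map_div₀, map_neg, hμσ,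
      smul_eq_mul, smul_smul, ← hT]
    rw [show s * (l * f x u) * (μ / l) = s * μ * f x u by field_simp,
      show s * (μ / l * f x (Gm S st (e₀ * β))) * l = s * μ * f x (Gm S st (e₀ * β)) by field_simp,
      show s * (μ / l * T * (l * f x u)) * l = s * μ * T * l * f x u by field_simp,
      show d = s * μ * T * (l - 1) by rw [hμ]; field_simp [sub_ne_zero.2 hl1, hne, st.s_ne]]
    module

variable (hF : ∀ x : F, σ x = x → x = 0 ∨ x = 1)
include hF

omit st in
theorem two_eq : (1 : F) + 1 = 0 :=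
  (hF (1 + 1) (by rw [map_add, map_one])).resolve_right fun h => one_ne_zero (add_eq_left.1 h)

/-- the fixed field with two elements -/
theorem small : ∃ u, u ≠ 0 ∧ Bf S u u = 0 ∧ u ∈ centres S.form M := by
  classical
  have h2 := two_eq S hF
  have negF : ∀ x : F, -x = x := fun x => neg_eq_of_add_eq_zero_right (by linear_combination x * h2)
  have two' : ∀ a : E, a + a = 0 := fun a => by rw [← two_smul F a, ← one_add_one_eq_two, h2, zero_smul]
  have negE : ∀ a : E, -a = a := fun a => neg_eq_of_add_eq_zero_right (two' a)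
  have twoV : ∀ a : ι → F, a + a = 0 := fun a => by rw [← two_smul F a, ← one_add_one_eq_two, h2, zero_smul]
  have hs : s = 1 := (hF s (st.s_anti.trans (negF s))).resolve_left st.s_ne
  subst hs
  have hτβ : τ β ≠ 0 := fun h0 => st.β_ne ((map_eq_zero_iff τ τ.injective).1 h0)
  let R : Set E := {z | ∃ e, τ e = e ∧ z = e * β}
  have hRadd : ∀ a b, a ∈ R → b ∈ R → a + b ∈ R := by
    rintro _ _ ⟨a, ha, rfl⟩ ⟨b, hb, rfl⟩
    exact ⟨a + b, by rw [map_add, ha, hb], by rw [add_mul]⟩
  have hRsmul : ∀ (c : F) (a : E), σ c = c → a ∈ R → c • a ∈ R := by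
    rintro c _ hc ⟨a, ha, rfl⟩
    exact ⟨c • a, by rw [tau_smul S, hc, ha], by rw [smul_mul_assoc]⟩
  have hsymR : ∀ a b, a ∈ R → b ∈ R → tr F E (τ a * b) = tr F E (τ b * a) ∧
      σ (tr F E (τ a * b)) = tr F E (τ a * b) := by
    rintro _ _ ⟨a, ha, rfl⟩ ⟨b, hb, rfl⟩
    simp only [← tr_tau S, map_mul, S.tau_inv, ha, hb]
    constructor <;> congr 1 <;> ring
  have hβR : β ∈ R := ⟨1, map_one τ, (one_mul β).symm⟩
  have hRspan : ∀ L : E →ₗ[F] E, (∀ z ∈ R, L z = 0) → L = 0 := fun L hL => LinearMap.ext fun z => by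
    obtain ⟨c, hc⟩ := exists_not_fixed S.form
    obtain ⟨a, b, ha, hb, hab, -⟩ := exists_real_decomp S hc (z / β)
    rw [show z = a * β + c • (b * β) by rw [← smul_mul_assoc, ← add_mul, ← hab, div_mul_cancel₀ _ st.β_ne],
      map_add, map_smul, hL _ ⟨a, ha, rfl⟩, hL _ ⟨b, hb, rfl⟩, smul_zero, add_zero, LinearMap.zero_apply]
  let W : (E →ₗ[F] E) → Prop := fun A => Mem M fun x => Gm S st (A (Gd S st x))
  have hadd : ∀ A B, W A → W B → W (A + B) := fun A B hA hB =>
    (hA.add hB fun x => by rw [Gd_Gm, map_zero, map_zero]).congr fun x => by rw [LinearMap.add_apply, map_add]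
  let V2 : E → E → (E →ₗ[F] E) := fun a b =>
    ((tr F E).comp (LinearMap.mulLeft F (τ a))).smulRight b + ((tr F E).comp (LinearMap.mulLeft F (τ b))).smulRight a
  have hV2 : ∀ a b z, V2 a b z = tr F E (τ a * z) • b + tr F E (τ b * z) • a := fun a b z => rfl
  let U : E → (E →ₗ[F] E) := fun a => ((tr F E).comp (LinearMap.mulLeft F (τ a))).smulRight a
  have hU : ∀ a z, U a z = tr F E (τ a * z) • a := fun a z => rfl
  have hφ : ∀ a, tr F E (τ β * a) = tr F E (a * τ β) := fun a => by rw [mul_comm]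
  have hpair : ∀ a q, a ∈ R → q ∈ R → tr F E (τ β * a) = 0 → tr F E (τ β * q) = 0 → W (V2 a q) := by
    rintro _ _ ⟨a, ha, rfl⟩ ⟨q, hq, rfl⟩ h1 h3
    rw [hφ] at h1 h3
    refine (mem_sym S st hq ha h1).congr fun x => ?_
    rw [h3, zero_mul, mul_zero, zero_smul, add_zero, hV2, map_add, map_smul, map_smul, tr_Gd, tr_Gd,
      Gm_fix S st h1, one_mul, one_mul]
  -- alternating maps killing `β`
  have halt : ∀ n, ∀ A : E →ₗ[F] E, finrank F (LinearMap.range A) ≤ n → (∀ z ∈ R, A z ∈ R) →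
      (∀ y ∈ R, ∀ z ∈ R, tr F E (τ y * A z) = tr F E (τ z * A y)) → (∀ y ∈ R, tr F E (τ y * A y) = 0) →
      A β = 0 → W A := by
    intro n
    induction n using Nat.strong_induction_on with
    | _ n ih =>
      intro A hn hAR hsym halt' hβ
      by_cases h0 : A = 0
      · subst h0
        exact ⟨1, M.one_mem, fun x => by
          show _ = x + Gm S st ((0 : E →ₗ[F] E) (Gd S st x))
          rw [Units.val_one, one_mulVec, LinearMap.zero_apply, map_zero, add_zero]⟩
      obtain ⟨y, hyR, hy⟩ : ∃ y ∈ R, A y ≠ 0 := by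
        by_contra hcon
        push Not at hcon
        exact h0 (hRspan A hcon)
      obtain ⟨x, hxR, hx⟩ : ∃ x ∈ R, tr F E (τ x * A y) = 1 := by
        obtain ⟨e, he, hne⟩ := exists_tr_real S (a := τ β * A y) (mul_ne_zero hτβ hy)
        refine ⟨e * β, ⟨e, he, rfl⟩, ?_⟩
        rw [map_mul τ, he, mul_assoc]
        obtain ⟨e', he', hAy⟩ := hAR y hyR
        refine (hF _ ?_).resolve_left hne
        rw [hAy, ← tr_tau S]
        simp only [map_mul, he, he', S.tau_inv]
        congr 1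
        ring
      have hext : ∀ a ∈ R, ∀ z, tr F E (τ a * A z) = tr F E (τ (A a) * z) := by
        intro a ha z
        have := LinearMap.congr_fun (hRspan
          (((tr F E).comp ((LinearMap.mulLeft F (τ a)).comp A) -
            (tr F E).comp (LinearMap.mulLeft F (τ (A a)))).smulRight β) fun b hb => by
            show (tr F E (τ a * A b) - tr F E (τ (A a) * b)) • β = 0
            rw [(hsymR _ b (hAR a ha) hb).1, hsym a ha b hb, sub_self, zero_smul]) z
        have h5 : (tr F E (τ a * A z) - tr F E (τ (A a) * z)) • β = 0 := this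
        exact sub_eq_zero.1 ((smul_eq_zero.1 h5).resolve_right st.β_ne)
      have hxb : tr F E (τ β * A x) = 0 := by rw [hext β hβR, hβ, map_zero, zero_mul, map_zero]
      have hyb : tr F E (τ β * A y) = 0 := by rw [hext β hβR, hβ, map_zero, zero_mul, map_zero]
      have hV : W (V2 (A x) (A y)) := hpair _ _ (hAR x hxR) (hAR y hyR) hxb hyb
      obtain ⟨A', hA'⟩ : ∃ A', A' = A + V2 (A x) (A y) := ⟨_, rfl⟩
      have hker : ∀ z, A z = 0 → A' z = 0 := fun z hz => by
        rw [hA', LinearMap.add_apply, hz, hV2, ← hext x hxR, ← hext y hyR, hz, mul_zero, mul_zero, map_zero,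
          zero_smul, zero_smul, add_zero, add_zero]
      have hx' : A' x = 0 := by
        rw [hA', LinearMap.add_apply, hV2, (hsymR _ x (hAR x hxR) hxR).1, halt' x hxR,
          (hsymR _ x (hAR y hyR) hxR).1, hx, zero_smul, one_smul, zero_add, two']
      have hlt : LinearMap.ker A < LinearMap.ker A' :=
        lt_of_le_of_ne (fun z hz => LinearMap.mem_ker.2 (hker z (LinearMap.mem_ker.1 hz))) fun he => by
          have h5 : A x = 0 := LinearMap.mem_ker.1 (he ▸ LinearMap.mem_ker.2 hx')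
          rw [hext x hxR, h5, map_zero, zero_mul, map_zero] at hx
          exact zero_ne_one hx
      have r1 := LinearMap.finrank_range_add_finrank_ker A
      have r2 := LinearMap.finrank_range_add_finrank_ker A'
      have r3 := Submodule.finrank_lt_finrank_of_lt hlt
      have hrest : W A' := by
        refine ih (finrank F (LinearMap.range A')) (by omega) A' le_rfl (fun a ha => ?_) (fun a ha b hb => ?_)
          (fun a ha => ?_) (hker β hβ)
        · rw [hA', LinearMap.add_apply, hV2]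
          exact hRadd _ _ (hAR a ha) (hRadd _ _ (hRsmul _ _ (hsymR _ a (hAR x hxR) ha).2 (hAR y hyR))
            (hRsmul _ _ (hsymR _ a (hAR y hyR) ha).2 (hAR x hxR)))
        · simp only [hA', LinearMap.add_apply, hV2, mul_add, mul_smul_comm, map_add, map_smul, smul_eq_mul,
            hsym a ha b hb, (hsymR _ a (hAR x hxR) ha).1, (hsymR _ a (hAR y hyR) ha).1,
            (hsymR _ b (hAR x hxR) hb).1, (hsymR _ b (hAR y hyR) hb).1]
          ring
        · simp only [hA', LinearMap.add_apply, hV2, mul_add, mul_smul_comm, map_add, map_smul, smul_eq_mul,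
            halt' a ha, (hsymR _ a (hAR x hxR) ha).1, (hsymR _ a (hAR y hyR) ha).1]
          linear_combination (tr F E (τ a * A x) * tr F E (τ a * A y)) * h2
      have := hadd _ _ hrest hV
      rwa [hA', add_assoc, show V2 (A x) (A y) + V2 (A x) (A y) = 0 from LinearMap.ext fun z => two' _,
        add_zero] at this
  haveI : CharP F 2 := CharTwo.of_one_ne_zero_of_two_eq_zero one_ne_zero (by rw [← one_add_one_eq_two, h2])
  haveI : CharP E 2 := (Algebra.charP_iff F E 2).1 inferInstance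
  haveI : Finite E := Module.finite_of_finite F
  have htr2 : ∀ e : E, tr F E (e * e) = tr F E e * tr F E e := fun e => by
    have h := Algebra.trace_eq_of_equiv_equiv (frobeniusEquiv F 2) (frobeniusEquiv E 2)
      (RingHom.ext fun c => by simp [frobenius_def]) e
    have h' := congrArg (frobeniusEquiv F 2) h
    rw [RingEquiv.apply_symm_apply, frobeniusEquiv_apply, frobeniusEquiv_apply, frobenius_def, frobenius_def,
      pow_two, pow_two] at h'
    exact h'.symm
  obtain ⟨e, he⟩ : ∃ e : E, e = (β * τ β)⁻¹ := ⟨_, rfl⟩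
  have hτe : τ e = e := by rw [he, map_inv₀, map_mul, S.tau_inv, mul_comm]
  have heN : e * (β * τ β) = 1 := by rw [he, inv_mul_cancel₀ (mul_ne_zero st.β_ne hτβ)]
  have htr1 : tr F E (1 : E) = 1 := by
    rw [tr, ← map_one (algebraMap F E), Algebra.trace_algebraMap, nsmul_eq_mul, mul_one]
    obtain ⟨k, hk⟩ := S.odd
    rw [hk, Nat.cast_add, Nat.cast_mul, Nat.cast_one, Nat.cast_ofNat, ← one_add_one_eq_two, h2, zero_mul, zero_add]
  obtain ⟨q, hq⟩ : ∃ q, q = e * β := ⟨_, rfl⟩
  have hqR : q ∈ R := ⟨e, hτe, hq⟩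
  have hqβ : tr F E (τ q * β) = 1 := by rw [hq, map_mul τ, hτe, mul_assoc, mul_comm (τ β), heN, htr1]
  obtain ⟨A, hA⟩ : ∃ A, A = LinearMap.mulLeft F e + U q := ⟨_, rfl⟩
  have hAz : ∀ z, A z = e * z + tr F E (τ q * z) • q := fun z => by
    rw [hA, LinearMap.add_apply, LinearMap.mulLeft_apply, hU]
  have hWA : W A := by
    refine halt _ A le_rfl (fun z hz => ?_) (fun a ha b hb => ?_) (fun a ha => ?_) ?_
    · rw [hAz]
      obtain ⟨b, hb, rfl⟩ := hz
      exact hRadd _ _ ⟨e * b, by rw [map_mul, hτe, hb], (mul_assoc _ _ _).symm⟩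
        (hRsmul _ _ (hsymR q _ hqR ⟨b, hb, rfl⟩).2 hqR)
    · rw [hAz, hAz, mul_add, mul_add, mul_smul_comm, mul_smul_comm, map_add, map_add, map_smul, map_smul,
        smul_eq_mul, smul_eq_mul, (hsymR a q ha hqR).1, (hsymR b q hb hqR).1, mul_comm (tr F E (τ q * b))]
      congr 2
      obtain ⟨a, ha', rfl⟩ := ha
      obtain ⟨b, hb', rfl⟩ := hb
      simp only [map_mul, ha', hb']
      ring
    · rw [hAz, mul_add, mul_smul_comm, map_add, map_smul, smul_eq_mul, (hsymR a q ha hqR).1]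
      obtain ⟨a, ha', rfl⟩ := ha
      rw [hq, map_mul τ, map_mul τ, ha', hτe,
        show a * τ β * (e * (a * β)) = a * a * (e * (β * τ β)) by ring,
        show e * τ β * (a * β) = a * (e * (β * τ β)) by ring, heN, mul_one, mul_one, htr2]
      linear_combination (tr F E a * tr F E a) * h2
    · rw [hAz, hqβ, one_smul, ← hq, two']
  have hWU : W (U q) := by
    have hWe : W (LinearMap.mulLeft F e) := mem_line S st (e := e) (by rw [hτe, negE])
    have := hadd _ _ hWe hWA
    rwa [hA, ← add_assoc, show LinearMap.mulLeft F e + LinearMap.mulLeft F e = 0 from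
      LinearMap.ext fun z => two' _, zero_add] at this
  obtain ⟨u, hu⟩ : ∃ u, u = Gm S st q := ⟨_, rfl⟩
  have hfu : f u u = 0 := hu ▸ Gm_iso S st q q
  have huC : u ∈ centres S.form M := by
    refine ⟨hfu, fun d hd => has_of_mem S hfu ?_⟩
    rcases hF d (hd.trans (negF d)) with rfl | rfl
    · exact ⟨1, M.one_mem, fun x => by simp⟩
    · refine hWU.congr fun x => ?_
      rw [hU, map_smul, tr_Gd, one_mul, hu]
  refine ⟨q • v, smul_ne_zero (hq ▸ mul_ne_zero (left_ne_zero_of_mul_eq_one heN) st.β_ne) st.v_ne, ?_, ?_⟩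
  · rw [Bf_smul_left, Bf_smul_right, st.v_iso, mul_zero, mul_zero]
  · have := centres_conj S.form S.le (M.inv_mem st.mem) huC
    rwa [hu, show Gm S st q = (g : Matrix ι ι F) *ᵥ (q • v) from rfl, gl_inv_mulVec] at this

omit hF in
/-- **A transvection.** -/
theorem exists_centre : ∃ u, u ≠ 0 ∧ Bf S u u = 0 ∧ u ∈ centres S.form M := by
  by_cases hF : ∀ x : F, σ x = x → x = 0 ∨ x = 1
  · exact small S st hF
  · push Not at hF
    obtain ⟨l, hl, hl0, hl1⟩ := hF
    exact large S st hl hl0 hl1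

end CfsgLib.Perm.Trans.Unit.Ext
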