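import Cfsg.Agent.Lib.Perm.Trans.UnitExt.Root
import Cfsg.Agent.Lib.Perm.Trans.UnitDecomp.Arith

/-!
# Unitary extension fields: spreading one transvection to all isotropic points
-/

set_option autoImplicit false
set_option linter.all false

namespace CfsgLib.Perm.Trans.Unit.Ext

open scoped Matrix
open Matrix Module Cfsg.Geo CfsgLib.Perm.Asch CfsgLib.Perm.Trans CfsgLib.Perm.Trans.Unit

variable {ι : Type} [Fintype ι] [DecidableEq ι] {F : Type*} [Field F] [Fintype F]
variable {E : Type*} [Field E] [Algebra F E] [FiniteDimensional F E]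
variable [Module E (ι → F)] [IsScalarTower F E (ι → F)]
variable {σ : F ≃+* F} {τ : E ≃+* E} {f : (ι → F) → (ι → F) → F} {M : Subgroup (GL ι F)}
variable (S : UData τ σ f M)
include S

theorem tau_ne {a : E} (ha : a ≠ 0) : τ a ≠ 0 := fun h => ha ((map_eq_zero_iff τ τ.injective).1 h)

/-- norm one scalars are ratios -/
theorem exists_ratio_F {μ : F} (hμ : μ * σ μ = 1) : ∃ r : F, r ≠ 0 ∧ μ * σ r = r := by
  obtain ⟨a, ha⟩ : ∃ a : F, a + μ * σ a ≠ 0 := by
    by_contra hcon
    push Not at hcon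
    obtain ⟨c, hc⟩ := exists_not_fixed S.form
    have h1 := hcon 1
    rw [map_one, mul_one] at h1
    exact hc (by linear_combination σ c * h1 - hcon c)
  refine ⟨a + μ * σ a, ha, ?_⟩
  rw [map_add, map_mul, S.form.involutive]
  linear_combination a * hμ

/-- a centre carried to the line of a non-orthogonal isotropic vector -/
theorem hop {x y : ι → F} (hx : x ∈ centres S.form M) (hxx : Bf S x x = 0) (hyy : Bf S y y = 0)
    (h : Bf S x y ≠ 0) : Bf S x y • y ∈ centres S.form M := by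
  obtain ⟨s, hs, hsσ⟩ := exists_trace_zero S.form
  obtain ⟨l, hl⟩ : ∃ l, l = Bf S x y := ⟨_, rfl⟩
  rw [← hl] at h ⊢
  obtain ⟨y', hy'⟩ : ∃ y', y' = (s • l) • y := ⟨_, rfl⟩
  obtain ⟨B', hB'⟩ : ∃ B', B' = τ (s • l) * l := ⟨_, rfl⟩
  have hB'0 : B' ≠ 0 := hB' ▸ mul_ne_zero (tau_ne S (smul_ne_zero hs h)) h
  have hB'τ : τ B' = -B' := by
    rw [hB', map_mul, S.tau_inv, tau_smul S, hsσ, neg_smul, neg_mul, neg_neg, smul_mul_assoc, smul_mul_assoc,
      mul_comm]
  have hxy' : Bf S x y' = B' := by rw [hy', Bf_smul_right, hB', hl]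
  have hy'y' : Bf S y' y' = 0 := by rw [hy', Bf_smul_left, Bf_smul_right, hyy, mul_zero, mul_zero]
  obtain ⟨g, hg, hgx⟩ := exists_Tm S (v := y' - x) (by
    rw [Bf_sub_left, Bf_sub_right, Bf_sub_right, hy'y', hxx, hxy', Bf_swap S x y', hxy', hB'τ]
    ring) (e := B'⁻¹) (by rw [map_inv₀, hB'τ, inv_neg])
  have hgy : (g : Matrix ι ι F) *ᵥ x = y' := by
    rw [hgx, Bf_sub_right, hxy', hxx, sub_zero, inv_mul_cancel₀ hB'0, one_smul, add_sub_cancel]
  have h1 := centres_smul S.form (centres_conj S.form S.le hg hx) s⁻¹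
  rwa [hgy, hy', ← smul_assoc, smul_smul, inv_mul_cancel₀ hs, one_smul] at h1

/-- fixed scalars -/
theorem real_scale {x : ι → F} (hx0 : x ≠ 0) (hxx : Bf S x x = 0) (hx : x ∈ centres S.form M) {e : E}
    (he : τ e = e) : e • x ∈ centres S.form M := by
  rcases eq_or_ne e 0 with rfl | he0
  · rw [zero_smul]; exact centres_zero S.form M
  obtain ⟨x', hx'x', h1, h2⟩ := exists_partnerE S hx0 hxx
  have hx' : x' ∈ centres S.form M := by
    have := hop S hx hxx hx'x' (by rw [h1]; exact one_ne_zero)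
    rwa [h1, one_smul] at this
  obtain ⟨μ, hμ⟩ := exists_norm_E S he
  have hμ0 : μ ≠ 0 := left_ne_zero_of_mul (hμ ▸ he0)
  have h3 : Bf S x' (μ • x) = τ μ := by rw [Bf_smul_right, h2, mul_one]
  have := hop S hx' hx'x' (y := μ • x) (by rw [Bf_smul_left, Bf_smul_right, hxx, mul_zero, mul_zero])
    (by rw [h3]; exact tau_ne S hμ0)
  rwa [h3, smul_smul, mul_comm, hμ] at this

theorem Bf_aniso_pair {p p₂ : ι → F} (h : Bf S p p₂ ≠ 0) :
    ∃ a b : E, Bf S (a • p + b • p₂) (a • p + b • p₂) ≠ 0 := by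
  by_cases hp : Bf S p p = 0
  swap
  · exact ⟨1, 0, by rwa [one_smul, zero_smul, add_zero]⟩
  by_cases hp₂ : Bf S p₂ p₂ = 0
  swap
  · exact ⟨0, 1, by rwa [one_smul, zero_smul, zero_add]⟩
  obtain ⟨t, ht⟩ := exists_trace_one_E S
  obtain ⟨μ, hμ⟩ : ∃ μ, μ = τ (t / Bf S p p₂) := ⟨_, rfl⟩
  refine ⟨1, μ, ?_⟩
  have h1 : τ μ * Bf S p p₂ = t := by rw [hμ, S.tau_inv, div_mul_cancel₀ _ h]
  have h2 : μ * Bf S p₂ p = τ t := by
    rw [← h1, map_mul, S.tau_inv, ← Bf_swap S p p₂]
  rw [one_smul, Bf_add_left, Bf_add_right, Bf_add_right, Bf_smul_left, Bf_smul_left, Bf_smul_right, Bf_smul_right,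
    hp, hp₂, h1, h2, mul_zero, mul_zero, zero_add, add_zero, ht]
  exact one_ne_zero

/-- an anisotropic vector orthogonal to an anisotropic one -/
theorem exists_perp_one {u : ι → F} (hu : Bf S u u ≠ 0) : ∃ z, Bf S z u = 0 ∧ Bf S z z ≠ 0 := by
  haveI : FiniteDimensional E (ι → F) := Module.Finite.of_restrictScalars_finite F E (ι → F)
  let pr : (ι → F) → (ι → F) := fun x => x - (Bf S x u / Bf S u u) • u
  have hpr : ∀ x, Bf S (pr x) u = 0 := fun x => by
    simp only [pr, Bf_sub_left, Bf_smul_left, div_mul_cancel₀ _ hu, sub_self]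
  obtain ⟨x, hx⟩ := CfsgLib.Perm.ExtField.exists_notMem_line (E := E) S.two_le u
  have hp0 : pr x ≠ 0 := fun h => hx (by
    rw [sub_eq_zero.1 (show x - (Bf S x u / Bf S u u) • u = 0 from h)]
    exact Submodule.smul_mem _ _ (Submodule.mem_span_singleton_self u))
  obtain ⟨z, hz⟩ := exists_ne_zero_pair S hp0
  have hne : Bf S (pr z) (pr x) ≠ 0 := by
    rw [show pr z = z - (Bf S z u / Bf S u u) • u from rfl, Bf_sub_left, Bf_smul_left,
      Bf_swap_zero S (hpr x), mul_zero, sub_zero]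
    exact hz
  obtain ⟨a, b, hab⟩ := Bf_aniso_pair S hne
  exact ⟨a • pr z + b • pr x, by rw [Bf_add_left, Bf_smul_left, Bf_smul_left, hpr, hpr, mul_zero, mul_zero, add_zero],
    hab⟩

/-- an anisotropic vector orthogonal to a hyperbolic pair -/
theorem exists_perp_two (hm : 3 ≤ finrank E (ι → F)) {v v' : ι → F} (hvv : Bf S v v = 0) (hv'v' : Bf S v' v' = 0)
    (h1 : Bf S v v' = 1) (h2 : Bf S v' v = 1) : ∃ z, Bf S z v = 0 ∧ Bf S z v' = 0 ∧ Bf S z z ≠ 0 := by
  classical
  haveI : FiniteDimensional E (ι → F) := Module.Finite.of_restrictScalars_finite F E (ι → F)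
  let pr : (ι → F) → (ι → F) := fun x => x - Bf S x v' • v - Bf S x v • v'
  have hpr : ∀ x, Bf S (pr x) v = 0 ∧ Bf S (pr x) v' = 0 := fun x => by
    simp only [pr, Bf_sub_left, Bf_smul_left, hvv, hv'v', h1, h2]
    constructor <;> ring
  obtain ⟨x, hx⟩ : ∃ x, x ∉ Submodule.span E ({v, v'} : Set (ι → F)) := by
    by_contra hcon
    push Not at hcon
    have h3 := Submodule.finrank_mono (show (⊤ : Submodule E (ι → F)) ≤ Submodule.span E ({v, v'} : Set (ι → F))
      from fun x _ => hcon x)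
    have h4 : finrank E (Submodule.span E ({v, v'} : Set (ι → F))) ≤ 2 := by
      refine (finrank_span_le_card _).trans ?_
      rw [Set.toFinset_insert, Set.toFinset_singleton]
      exact Finset.card_le_two
    rw [finrank_top] at h3
    omega
  have hp0 : pr x ≠ 0 := fun h => hx (by
    have h3 : x = Bf S x v' • v + Bf S x v • v' := by
      rw [← sub_eq_zero, ← h]
      simp only [pr]
      abel
    rw [h3]
    exact Submodule.mem_span_pair.2 ⟨_, _, rfl⟩)
  obtain ⟨z, hz⟩ := exists_ne_zero_pair S hp0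
  have hne : Bf S (pr z) (pr x) ≠ 0 := by
    rw [show pr z = z - Bf S z v' • v - Bf S z v • v' from rfl, Bf_sub_left, Bf_sub_left, Bf_smul_left, Bf_smul_left,
      Bf_swap_zero S (hpr x).1, Bf_swap_zero S (hpr x).2, mul_zero, mul_zero, sub_zero, sub_zero]
    exact hz
  obtain ⟨a, b, hab⟩ := Bf_aniso_pair S hne
  exact ⟨a • pr z + b • pr x,
    by rw [Bf_add_left, Bf_smul_left, Bf_smul_left, (hpr z).1, (hpr x).1, mul_zero, mul_zero, add_zero],
    by rw [Bf_add_left, Bf_smul_left, Bf_smul_left, (hpr z).2, (hpr x).2, mul_zero, mul_zero, add_zero], hab⟩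

/-- diagonal elements of the hyperbolic plane -/
theorem exists_diag {v : ι → F} (hv0 : v ≠ 0) (hvv : Bf S v v = 0) {γ : E} (hγ : γ ≠ 0)
    (h : 3 ≤ finrank E (ι → F) ∨ σ (Algebra.norm F γ) = Algebra.norm F γ) :
    ∃ g ∈ M, (g : Matrix ι ι F) *ᵥ v = γ • v := by
  haveI : FiniteDimensional E (ι → F) := Module.Finite.of_restrictScalars_finite F E (ι → F)
  obtain ⟨v', hv'v', h1, h2⟩ := exists_partnerE S hv0 hvv
  obtain ⟨δ, hδ⟩ : ∃ δ, δ = (τ γ)⁻¹ := ⟨_, rfl⟩
  have hδγ : δ * τ γ = 1 := by rw [hδ, inv_mul_cancel₀ (tau_ne S hγ)]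
  have hδγ' : τ δ * γ = 1 := by
    have := congrArg τ hδγ
    rwa [map_mul, S.tau_inv, map_one] at this
  obtain ⟨L, hLdef⟩ : ∃ L, L = (LinearMap.transvection ((δ - 1) • Bfun S v) v').comp
      (LinearMap.transvection ((γ - 1) • Bfun S v') v) := ⟨_, rfl⟩
  have hL : ∀ x, L x = x + ((γ - 1) * Bf S x v') • v + ((δ - 1) * Bf S x v) • v' := fun x => by
    rw [hLdef, LinearMap.comp_apply, LinearMap.transvection.apply, LinearMap.transvection.apply,
      LinearMap.smul_apply, LinearMap.smul_apply, Bfun_apply, Bfun_apply, smul_eq_mul, smul_eq_mul, Bf_add_left,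
      Bf_smul_left, hvv, mul_zero, add_zero]
  have hiso : ∀ x y, Bf S (L x) (L y) = Bf S x y := fun x y => by
    simp only [hL, Bf_add_left, Bf_add_right, Bf_smul_left, Bf_smul_right, hvv, hv'v', h1, h2, map_mul, map_sub,
      map_one, ← Bf_swap S]
    linear_combination (Bf S x v * Bf S v' y) * hδγ + (Bf S x v' * Bf S v y) * hδγ'
  have hdetL : LinearMap.det L = δ * γ := by
    rw [hLdef, LinearMap.det_comp, LinearMap.transvection.det, LinearMap.transvection.det, LinearMap.smul_apply,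
      LinearMap.smul_apply, Bfun_apply, Bfun_apply, h1, h2, smul_eq_mul, smul_eq_mul, mul_one, mul_one,
      add_sub_cancel, add_sub_cancel]
  rcases h with h | h
  · obtain ⟨z, hzv, hzv', hzz⟩ := exists_perp_two S h hvv hv'v' h1 h2
    obtain ⟨ζ, hζ⟩ : ∃ ζ, ζ = τ γ / γ := ⟨_, rfl⟩
    have hζ1 : ζ * τ ζ = 1 := by
      rw [hζ, map_div₀, S.tau_inv]
      field_simp [tau_ne S hγ]
    obtain ⟨Q, hQdef⟩ : ∃ Q, Q = LinearMap.transvection (((ζ - 1) / Bf S z z) • Bfun S z) z := ⟨_, rfl⟩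
    have hQ : ∀ x, Q x = x + ((ζ - 1) / Bf S z z * Bf S x z) • z := fun x => by
      rw [hQdef, LinearMap.transvection.apply]; rfl
    have hzzτ : τ (Bf S z z) = Bf S z z := (Bf_swap S z z).symm
    obtain ⟨g, hg, hgx⟩ := mem_of_lin S (Q.comp L) (fun x y => by
      rw [← hiso x y, LinearMap.comp_apply, LinearMap.comp_apply, hQ, hQ]
      simp only [Bf_add_left, Bf_add_right, Bf_smul_left, Bf_smul_right, map_mul, map_div₀, map_sub, map_one, hzzτ,
        ← Bf_swap S]
      field_simp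
      linear_combination (Bf S (L x) z * Bf S z (L y)) * hζ1) (by
      rw [LinearMap.det_comp, hdetL, hQdef, LinearMap.transvection.det, LinearMap.smul_apply, Bfun_apply, smul_eq_mul,
        div_mul_cancel₀ _ hzz, add_sub_cancel, hζ,
        show τ γ / γ * (δ * γ) = (δ * τ γ) * (γ / γ) by ring, hδγ, div_self hγ, mul_one, map_one])
    refine ⟨g, hg, ?_⟩
    rw [hgx, LinearMap.comp_apply, hL, hvv, h1, mul_one, mul_zero, zero_smul, add_zero,
      show v + (γ - 1) • v = γ • v by rw [sub_smul, one_smul, add_sub_cancel], hQ, Bf_smul_left,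
      Bf_swap_zero S hzv, mul_zero, mul_zero, zero_smul, add_zero]
  · obtain ⟨g, hg, hgx⟩ := mem_of_lin S L hiso (by
      have hn : Algebra.norm F (τ γ) = Algebra.norm F γ := by
        rw [Algebra.norm_eq_of_equiv_equiv σ τ (RingHom.ext fun c => (S.tau_alg c).symm) γ] at h
        rw [RingEquiv.apply_symm_apply] at h
        rw [h, Algebra.norm_eq_of_equiv_equiv σ τ (RingHom.ext fun c => (S.tau_alg c).symm) γ]
      rw [hdetL, map_mul, ← hn, ← map_mul, hδγ, map_one])
    refine ⟨g, hg, ?_⟩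
    rw [hgx, hL, hvv, h1, mul_one, mul_zero, zero_smul, add_zero, sub_smul, one_smul, add_sub_cancel]

/-- a scalar outside `F E₀` with a fixed norm -/
theorem exists_mixed (hex : ¬ (finrank F E = 3 ∧ Fintype.card F = 4)) :
    ∃ a : E, a ≠ 0 ∧ σ (Algebra.norm F a) = Algebra.norm F a ∧ ∀ r : F, r ≠ 0 → τ (r • a) ≠ r • a := by
  classical
  haveI : Finite E := Module.finite_of_finite F
  obtain ⟨q, hq, hcard, -, hcirc⟩ := exists_sizes S.form
  have hpow : ∀ x : F, x ≠ 0 → σ (x ^ (q + 1)) = x ^ (q + 1) := by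
    intro x hx
    obtain ⟨μ, hμ, hμv⟩ := exists_circ (σ := σ) (x := σ x / x) (by
      rw [map_div₀, S.form.involutive]
      field_simp [show σ x ≠ 0 by simpa using hx])
    have h1 : (μ : F) ^ (q + 1) = 1 := by
      have h2 : (⟨μ, hμ⟩ : circ σ) ^ (q + 1) = 1 := by rw [← hcirc]; exact pow_card_eq_one'
      simpa using congrArg (fun u : circ σ => ((u : Fˣ) : F)) h2
    rw [hμv, div_pow, div_eq_one_iff_eq (pow_ne_zero _ hx)] at h1
    rw [map_pow, h1]
  obtain ⟨c, hc⟩ := exists_not_fixed S.form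
  obtain ⟨C, hC⟩ : ∃ C, C = algebraMap F E c := ⟨_, rfl⟩
  have hτC : τ C ≠ C := fun h => hc ((algebraMap F E).injective (by rw [← S.tau_alg, ← hC, h]))
  have hbij : Function.Bijective (fun p : {e : E // τ e = e} × {e : E // τ e = e} => (p.1 : E) + c • (p.2 : E)) := by
    constructor
    · rintro ⟨a, b⟩ ⟨a', b'⟩ h
      have h0 : (a : E) + c • (b : E) = a' + c • (b' : E) := h
      have h1 := congrArg τ h0
      rw [map_add, map_add, tau_smul S, tau_smul S, a.2, b.2, a'.2, b'.2] at h1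
      have h2 : (c - σ c) • ((b : E) - b') = 0 := by
        simp only [sub_smul, smul_sub]
        linear_combination (norm := module) h0 - h1
      have hb : (b : E) = b' := sub_eq_zero.1 ((smul_eq_zero.1 h2).resolve_left (sub_ne_zero.2 (Ne.symm hc)))
      exact Prod.ext (Subtype.ext (by rw [hb] at h0; exact add_right_cancel h0)) (Subtype.ext hb)
    · intro x
      obtain ⟨a, b, ha, hb, hab, -⟩ := exists_real_decomp S hc x
      exact ⟨(⟨a, ha⟩, ⟨b, hb⟩), hab.symm⟩
  have hR : Nat.card {e : E // τ e = e} = q ^ finrank F E := by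
    have h1 : Nat.card {e : E // τ e = e} ^ 2 = (q ^ finrank F E) ^ 2 := by
      rw [pow_two, ← Nat.card_prod, Nat.card_eq_of_bijective _ hbij, Module.natCard_eq_pow_finrank (K := F) (V := E),
        Nat.card_eq_fintype_card, hcard, ← pow_mul, ← pow_mul, mul_comm]
    exact Nat.pow_left_injective (by norm_num) h1
  obtain ⟨N, hN⟩ : ∃ N, N = (q + 1) * (q + 1) := ⟨_, rfl⟩
  have hsmall : N < q ^ finrank F E + 1 := by
    obtain ⟨k, hk⟩ := S.odd
    have h2 := S.prime.two_le
    rcases Nat.lt_or_ge (finrank F E) 4 with h | h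
    · have h3 : finrank F E = 3 := by omega
      have hq2 : q ≠ 2 := fun h0 => hex ⟨h3, by rw [hcard, h0]; norm_num⟩
      rw [hN, h3]
      have : 3 ≤ q := by omega
      nlinarith
    · have h4 : q ^ 4 ≤ q ^ finrank F E := Nat.pow_le_pow_right (by omega) h
      rw [hN]
      have h8 : 4 * (q * q) ≤ q ^ 4 := by
        rw [show q ^ 4 = (q * q) * (q * q) by ring]
        exact Nat.mul_le_mul_right _ (Nat.mul_le_mul hq hq)
      nlinarith
  let ζ : Option {e : E // τ e = e} → E := fun o => o.elim 1 fun t => ((t : E) + τ C) / ((t : E) + C)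
  have hne : ∀ t : {e : E // τ e = e}, (t : E) + C ≠ 0 := fun t h => hτC (by
    rw [eq_neg_of_add_eq_zero_right h, map_neg, t.2])
  have hζinj : Function.Injective ζ := by
    rintro (_ | t) (_ | t') h
    · rfl
    · exfalso
      have h' : (1 : E) = ((t' : E) + τ C) / ((t' : E) + C) := h
      rw [eq_comm, div_eq_one_iff_eq (hne t')] at h'
      exact hτC (add_left_cancel h')
    · exfalso
      have h' : ((t : E) + τ C) / ((t : E) + C) = 1 := h
      rw [div_eq_one_iff_eq (hne t)] at h'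
      exact hτC (add_left_cancel h')
    · have h' : ((t : E) + τ C) / ((t : E) + C) = ((t' : E) + τ C) / ((t' : E) + C) := h
      rw [div_eq_div_iff (hne t) (hne t')] at h'
      have h2 : ((t : E) - t') * (C - τ C) = 0 := by linear_combination h'
      exact congrArg some (Subtype.ext (sub_eq_zero.1
        ((mul_eq_zero.1 h2).resolve_right (sub_ne_zero.2 (Ne.symm hτC)))))
  obtain ⟨o, ho⟩ : ∃ o, ζ o ^ N ≠ 1 := by
    by_contra hcon
    push Not at hcon
    haveI : Fintype {e : E // τ e = e} := Fintype.ofFinite _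
    have h1 : (Finset.univ.image ζ).card ≤ N := by
      refine (Finset.card_le_card fun x hx => ?_).trans
        ((Multiset.toFinset_card_le _).trans (Polynomial.card_nthRoots N (1 : E)))
      obtain ⟨o, -, rfl⟩ := Finset.mem_image.1 hx
      rw [Multiset.mem_toFinset, Polynomial.mem_nthRoots (by rw [hN]; positivity)]
      exact hcon o
    rw [Finset.card_image_of_injective _ hζinj, Finset.card_univ, Fintype.card_option, ← Nat.card_eq_fintype_card,
      hR] at h1
    omega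
  rcases o with _ | t
  · exact absurd (one_pow N) ho
  obtain ⟨b, hb⟩ : ∃ b, b = (t : E) + C := ⟨_, rfl⟩
  have hτb : τ b = (t : E) + τ C := by rw [hb, map_add, t.2]
  have hb0 : b ≠ 0 := hb ▸ hne t
  refine ⟨b ^ (q + 1), pow_ne_zero _ hb0, ?_, fun r hr hfix => ho ?_⟩
  · rw [map_pow, hpow _ (fun h0 => hb0 (Algebra.norm_eq_zero_iff.1 h0))]
  · show (((t : E) + τ C) / ((t : E) + C)) ^ N = 1
    rw [← hb, ← hτb, hN, pow_mul]
    have h1 : (τ b / b) ^ (q + 1) = algebraMap F E (r / σ r) := by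
      rw [tau_smul S, map_pow, Algebra.smul_def, Algebra.smul_def] at hfix
      have hσr : algebraMap F E (σ r) ≠ 0 := (map_ne_zero _).2 (by simpa using hr)
      rw [div_pow, map_div₀, div_eq_div_iff (pow_ne_zero _ hb0) hσr]
      linear_combination hfix
    rw [h1, ← map_pow, div_pow, ← map_pow, hpow r hr, div_self (pow_ne_zero _ hr), map_one]

/-- scalars with `q + 1` divisible by the degree: a rescaling with a non-degenerate trace -/
theorem exists_good (hle : finrank F E ≤ Nat.card (circ σ)) {c γ : E} (hc : c ≠ 0) (hctr : tr F E c = 0)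
    (hγ : γ ≠ 0) (hno : ∀ r : F, r ≠ 0 → τ (r • γ) ≠ r • γ) :
    ∃ r : F, r ≠ 0 ∧ r • γ + τ (r • γ) ≠ 0 ∧ tr F E (c / (r • γ + τ (r • γ)) * (r • γ)) ≠ 0 := by
  classical
  obtain ⟨ζ, hζ⟩ : ∃ ζ, ζ = γ / τ γ := ⟨_, rfl⟩
  have hζF : ζ ∉ (algebraMap F E).range := by
    rintro ⟨z, hz⟩
    have h1 : γ = algebraMap F E z * τ γ := by rw [hz, hζ, div_mul_cancel₀ _ (tau_ne S hγ)]
    have hz1 : z * σ z = 1 := (algebraMap F E).injective (by
      rw [map_mul, ← S.tau_alg, hz, hζ, map_div₀, S.tau_inv, map_one]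
      field_simp [tau_ne S hγ])
    obtain ⟨ρ, hρ0, hρ⟩ := exists_ratio_F S hz1
    refine hno ρ⁻¹ (inv_ne_zero hρ0) ?_
    rw [tau_smul S, map_inv₀]
    conv_rhs => rw [h1, ← Algebra.smul_def, smul_smul]
    congr 1
    field_simp [show σ ρ ≠ 0 by simpa using hρ0]
    linear_combination -hρ
  obtain ⟨emb⟩ := Function.Embedding.nonempty_of_card_le (α := Fin (finrank F E)) (β := circ σ) (by
    rw [Fintype.card_fin, ← Nat.card_eq_fintype_card]; exact hle)
  obtain ⟨m, hm⟩ : ∃ m : Fin (finrank F E) → F, m = fun i => ((emb i : Fˣ) : F) := ⟨_, rfl⟩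
  have hm0 : ∀ i, m i ≠ 0 := fun i => by rw [hm]; exact Units.ne_zero _
  have hminj : Function.Injective m := fun i j h => emb.injective (Subtype.ext (Units.ext (by rw [hm] at h; exact h)))
  have hden : ∀ i, 1 + algebraMap F E (m i) * ζ ≠ 0 := fun i h => hζF ⟨-(m i)⁻¹, by
    have h2 : algebraMap F E (m i) ≠ 0 := (map_ne_zero _).2 (hm0 i)
    rw [map_neg, map_inv₀]
    field_simp
    linear_combination -h⟩
  by_contra hcon
  push Not at hcon
  have hzero : ∀ i, tr F E (c * (1 + algebraMap F E (m i) * ζ)⁻¹) = 0 := by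
    intro i
    obtain ⟨r, hr0, hr⟩ := exists_ratio_F S (μ := m i) (by rw [hm]; exact mem_circ.1 (emb i).2)
    have hσr : σ r ≠ 0 := by simpa using hr0
    have hσr' : algebraMap F E (σ r) ≠ 0 := (map_ne_zero _).2 hσr
    have hτγ := tau_ne S hγ
    have hrγ : r • γ = algebraMap F E (σ r) * τ γ * (algebraMap F E (m i) * ζ) := by
      rw [Algebra.smul_def, show algebraMap F E r = algebraMap F E (m i) * algebraMap F E (σ r) by rw [← map_mul, hr],
        hζ]
      field_simp
    have hτrγ : τ (r • γ) = algebraMap F E (σ r) * τ γ := by rw [tau_smul S, Algebra.smul_def]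
    have hne : r • γ + τ (r • γ) ≠ 0 := by
      rw [hτrγ, hrγ, ← mul_add_one, add_comm _ (1 : E)]
      exact mul_ne_zero (mul_ne_zero hσr' hτγ) (hden i)
    have h1 := hcon r hr0 hne
    have h2 : c / (r • γ + τ (r • γ)) * (r • γ) = c - c * (1 + algebraMap F E (m i) * ζ)⁻¹ := by
      rw [hτrγ, hrγ, ← mul_add_one, add_comm _ (1 : E)]
      have := hden i
      field_simp
      ring
    rw [h2, map_sub, hctr, zero_sub, neg_eq_zero] at h1
    exact h1
  have hli : LinearIndependent F fun i => (1 + algebraMap F E (m i) * ζ)⁻¹ := by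
    rw [Fintype.linearIndependent_iff]
    intro a ha i
    obtain ⟨P, hP⟩ : ∃ P : Polynomial F, P = ∑ k, Polynomial.C (a k) *
        ∏ j ∈ Finset.univ.erase k, (1 + Polynomial.C (m j) * Polynomial.X) := ⟨_, rfl⟩
    have hPev : Polynomial.aeval ζ P = 0 := by
      rw [hP]
      simp only [map_sum, map_mul, map_prod, map_add, map_one, Polynomial.aeval_C, Polynomial.aeval_X]
      have h3 : ∀ k, algebraMap F E (a k) * ∏ j ∈ Finset.univ.erase k, (1 + algebraMap F E (m j) * ζ) =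
          (∏ j, (1 + algebraMap F E (m j) * ζ)) * (a k • (1 + algebraMap F E (m k) * ζ)⁻¹) := fun k => by
        rw [← Finset.mul_prod_erase Finset.univ _ (Finset.mem_univ k), Algebra.smul_def]
        linear_combination -(algebraMap F E (a k) * ∏ j ∈ Finset.univ.erase k, (1 + algebraMap F E (m j) * ζ)) *
          mul_inv_cancel₀ (hden k)
      rw [Finset.sum_congr rfl fun k _ => h3 k, ← Finset.mul_sum, ha, mul_zero]
    have hPdeg : P.natDegree < finrank F E := by
      refine lt_of_le_of_lt (b := finrank F E - 1) ?_ (Nat.sub_lt S.prime.pos one_pos)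
      rw [hP]
      refine Polynomial.natDegree_sum_le_of_forall_le _ _ fun k _ => ?_
      refine (Polynomial.natDegree_C_mul_le _ _).trans ((Polynomial.natDegree_prod_le _ _).trans ?_)
      refine (Finset.sum_le_card_nsmul _ _ 1 fun j _ => ?_).trans (by simp)
      compute_degree
    have hP0 : P = 0 := by
      by_contra h0
      have h4 := Polynomial.natDegree_le_of_dvd (minpoly.dvd F ζ hPev) h0
      rw [natDegree_minpoly_of_prime S.prime hζF] at h4
      omega
    have h5 := congrArg (Polynomial.eval (-(m i)⁻¹)) hP0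
    rw [hP, Polynomial.eval_finsetSum, Polynomial.eval_zero, Finset.sum_eq_single i (fun k _ hki => by
      rw [Polynomial.eval_mul, Polynomial.eval_prod, Finset.prod_eq_zero (Finset.mem_erase.2 ⟨Ne.symm hki,
        Finset.mem_univ i⟩), mul_zero]
      simp [hm0 i]) (fun h => absurd (Finset.mem_univ i) h), Polynomial.eval_mul, Polynomial.eval_C,
      Polynomial.eval_prod] at h5
    refine (mul_eq_zero.1 h5).resolve_right (Finset.prod_ne_zero_iff.2 fun j hj h6 => ?_)
    simp only [Polynomial.eval_add, Polynomial.eval_one, Polynomial.eval_mul, Polynomial.eval_C,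
      Polynomial.eval_X] at h6
    refine (Finset.mem_erase.1 hj).1 (hminj ?_)
    field_simp [hm0 i] at h6
    linear_combination -h6
  haveI : Nonempty (Fin (finrank F E)) := ⟨⟨0, S.prime.pos⟩⟩
  have hspan := hli.span_eq_top_of_card_eq_finrank (Fintype.card_fin _)
  refine hc (tr_ext (F := F) fun z => ?_)
  have hker : Submodule.span F (Set.range fun i => (1 + algebraMap F E (m i) * ζ)⁻¹) ≤
      LinearMap.ker ((tr F E).comp (LinearMap.mulLeft F c)) := by
    rw [Submodule.span_le]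
    rintro _ ⟨i, rfl⟩
    exact hzero i
  rw [hspan] at hker
  rw [mul_zero, map_zero, mul_comm]
  exact hker (Submodule.mem_top (x := z))

/-- all scalars on one isotropic line -/
theorem line_full (hex : 3 ≤ finrank E (ι → F) ∨ ¬ (finrank F E = 3 ∧ Fintype.card F = 4)) {v : ι → F} (hv0 : v ≠ 0)
    (hvv : Bf S v v = 0) (hv : v ∈ centres S.form M) (γ : E) : γ • v ∈ centres S.form M := by
  rcases eq_or_ne γ 0 with rfl | hγ
  · rw [zero_smul]; exact centres_zero S.form M
  have hdiag : ∀ δ : E, δ ≠ 0 → (3 ≤ finrank E (ι → F) ∨ σ (Algebra.norm F δ) = Algebra.norm F δ) →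
      δ • v ∈ centres S.form M := fun δ hδ h => by
    obtain ⟨g, hg, hgv⟩ := exists_diag S hv0 hvv hδ h
    exact hgv ▸ centres_conj S.form S.le hg hv
  by_cases hm : 3 ≤ finrank E (ι → F)
  · exact hdiag γ hγ (Or.inl hm)
  have hclose : ∀ δ : E, δ ≠ 0 → δ • v ∈ centres S.form M → ∀ (r : F) (e : E), τ e = e →
      (r • (e * δ)) • v ∈ centres S.form M := fun δ hδ h r e he => by
    rw [smul_assoc, mul_smul]
    refine centres_smul S.form (real_scale S (smul_ne_zero hδ hv0) ?_ h he) r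
    rw [Bf_smul_left, Bf_smul_right, hvv, mul_zero, mul_zero]
  rcases Nat.coprime_or_dvd_of_prime S.prime (Nat.card (circ σ)) with hcop | hdvd
  · -- a multiple with fixed norm
    have hn0 : Algebra.norm F γ ≠ 0 := fun h => hγ (Algebra.norm_eq_zero_iff.1 h)
    have hσn0 : σ (Algebra.norm F γ) ≠ 0 := by simpa using hn0
    obtain ⟨μ, hμ, hμv⟩ := exists_circ (σ := σ) (x := σ (Algebra.norm F γ) / Algebra.norm F γ) (by
      rw [map_div₀, S.form.involutive]
      field_simp)
    obtain ⟨w, hw⟩ := (powCoprime (Nat.Coprime.symm hcop)).surjective (⟨μ, hμ⟩ : circ σ)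
    have hw' : ((w : Fˣ) : F) ^ finrank F E = σ (Algebra.norm F γ) / Algebra.norm F γ := by
      rw [← hμv]
      simpa [powCoprime] using congrArg (fun u : circ σ => ((u : Fˣ) : F)) hw
    obtain ⟨r, hr0, hr⟩ := exists_ratio_F S (μ := ((w : Fˣ) : F)) (mem_circ.1 w.2)
    have hfix : σ (Algebra.norm F (r • γ)) = Algebra.norm F (r • γ) := by
      rw [Algebra.smul_def, map_mul, Algebra.norm_algebraMap, map_mul, map_pow]
      conv_rhs => rw [← hr, mul_pow, hw']
      field_simp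
    have h1 := centres_smul S.form (hdiag (r • γ) (smul_ne_zero hr0 hγ) (Or.inr hfix)) r⁻¹
    rwa [← smul_assoc, smul_smul, inv_mul_cancel₀ hr0, one_smul] at h1
  · have hle : finrank F E ≤ Nat.card (circ σ) := Nat.le_of_dvd Nat.card_pos hdvd
    obtain ⟨a, ha0, han, hano⟩ := exists_mixed S (hex.resolve_left hm)
    obtain ⟨s, hs, hsσ⟩ := exists_trace_zero S.form
    obtain ⟨v', hv'v', h1, h2⟩ := exists_partnerE S hv0 hvv
    have hav' : a • v' ∈ centres S.form M := by
      have := hop S (hdiag a ha0 (Or.inr han)) (by rw [Bf_smul_left, Bf_smul_right, hvv, mul_zero, mul_zero]) hv'v'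
        (by rw [Bf_smul_left, h1, mul_one]; exact ha0)
      rwa [Bf_smul_left, h1, mul_one] at this
    obtain ⟨e₀, he₀, hA⟩ := exists_tr_real S ha0
    have he₀0 : e₀ ≠ 0 := fun h => hA (by rw [h, zero_mul, map_zero])
    obtain ⟨ω, hω⟩ : ∃ ω, ω = (s / tr F E (e₀ * a)) • (e₀ * a) := ⟨_, rfl⟩
    have hωtr : tr F E ω = s := by rw [hω, map_smul, smul_eq_mul, div_mul_cancel₀ _ hA]
    have hω0 : ω ≠ 0 := fun h => hs (by rw [← hωtr, h, map_zero])
    have hv'0 : v' ≠ 0 := fun h => one_ne_zero (show (1 : E) = 0 by rw [← h1, h, Bf_zero_right])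
    have hωC : ω • v' ∈ centres S.form M := by
      rw [hω, smul_assoc, mul_smul]
      exact centres_smul S.form (real_scale S (smul_ne_zero ha0 hv'0)
        (by rw [Bf_smul_left, Bf_smul_right, hv'v', mul_zero, mul_zero]) hav' he₀) _
    obtain ⟨c, hc⟩ : ∃ c, c = ω + τ ω := ⟨_, rfl⟩
    have hc0 : c ≠ 0 := fun h0 => by
      have hanti : τ ω = -ω := eq_neg_of_add_eq_zero_right (hc ▸ h0)
      have hk : s * (s / tr F E (e₀ * a)) ≠ 0 := mul_ne_zero hs (div_ne_zero hs hA)
      refine hano _ hk (mul_left_cancel₀ he₀0 ?_)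
      calc e₀ * τ ((s * (s / tr F E (e₀ * a))) • a)
          = τ (s • ω) := by rw [hω, smul_smul, tau_smul S, tau_smul S, map_mul τ, he₀, mul_smul_comm]
        _ = s • ω := by rw [tau_smul S, hsσ, hanti, smul_neg, neg_smul, neg_neg]
        _ = e₀ * ((s * (s / tr F E (e₀ * a))) • a) := by rw [hω, smul_smul, mul_smul_comm]
    obtain ⟨u, hu⟩ : ∃ u, u = v + ω • v' := ⟨_, rfl⟩
    have huu : Bf S u u = c := by
      rw [hu, Bf_add_left, Bf_add_right, Bf_add_right, Bf_smul_left, Bf_smul_left, Bf_smul_right, Bf_smul_right, hvv,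
        hv'v', h1, h2, hc]
      ring
    have hctr : tr F E c = 0 := by rw [hc, map_add, tr_tau S, hωtr, hsσ, add_neg_cancel]
    have hfuu : f u u = 0 := by rw [f_eq S, huu, hctr]
    have huC : u ∈ centres S.form M := by
      have h5 := centres_line S.form S.le hv hωC (r := 1) (by
        rw [f_eq S, Bf_smul_right, h1, mul_one, tr_tau S, hωtr, hsσ]; exact neg_ne_zero.2 hs)
        (by rwa [one_smul, ← hu])
      rwa [one_smul, ← hu] at h5
    by_cases hreal : ∃ r : F, r ≠ 0 ∧ τ (r • γ) = r • γ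
    · obtain ⟨r, hr0, hr⟩ := hreal
      have h5 := hclose 1 one_ne_zero (by rwa [one_smul]) r⁻¹ (r • γ) hr
      rwa [mul_one, smul_smul, inv_mul_cancel₀ hr0, one_smul] at h5
    push Not at hreal
    obtain ⟨r, hr0, hsum, htrl⟩ := exists_good S hle hc0 hctr hγ hreal
    obtain ⟨e, he⟩ : ∃ e, e = c / (r • γ + τ (r • γ)) := ⟨_, rfl⟩
    have hτc : τ c = c := by rw [hc, map_add, S.tau_inv, add_comm]
    have hτe : τ e = e := by rw [he, map_div₀, hτc, map_add, S.tau_inv, add_comm (r • γ)]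
    have he0 : e ≠ 0 := he ▸ div_ne_zero hc0 hsum
    obtain ⟨l, hl⟩ : ∃ l, l = e * (r • γ) := ⟨_, rfl⟩
    have hlc : l + τ l = c := by
      rw [hl, map_mul, hτe, ← mul_add, he, div_mul_cancel₀ _ hsum]
    rw [← he, ← hl] at htrl
    have hl0 : l ≠ 0 := fun h => htrl (by rw [h, map_zero])
    obtain ⟨ρ, hρ0, hρ⟩ : ∃ ρ : F, ρ ≠ 0 ∧ ρ • (l / ω) + τ (ρ • (l / ω)) ≠ 0 := by
      by_contra hcon
      push Not at hcon
      obtain ⟨d, hd⟩ := exists_not_fixed S.form
      have hd0 : d ≠ 0 := fun h => hd (by rw [h, map_zero])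
      have h5 := hcon 1 one_ne_zero
      have h6 := hcon d hd0
      rw [one_smul] at h5
      rw [tau_smul S, eq_neg_of_add_eq_zero_right h5, smul_neg, ← sub_eq_add_neg, ← sub_smul, smul_eq_zero] at h6
      rcases h6 with h6 | h6
      · exact hd (sub_eq_zero.1 h6).symm
      · exact div_ne_zero hl0 hω0 h6
    obtain ⟨cN, hcN⟩ : ∃ cN, cN = ω⁻¹ + τ ω⁻¹ := ⟨_, rfl⟩
    have hcN0 : cN ≠ 0 := by
      rw [hcN, map_inv₀, inv_add_inv hω0 (tau_ne S hω0), ← hc]
      exact div_ne_zero hc0 (mul_ne_zero hω0 (tau_ne S hω0))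
    obtain ⟨e₂, he₂⟩ : ∃ e₂, e₂ = (ρ • (l / ω) + τ (ρ • (l / ω))) / cN := ⟨_, rfl⟩
    have he₂0 : e₂ ≠ 0 := he₂ ▸ div_ne_zero hρ hcN0
    have hτe₂ : τ e₂ = e₂ := by
      rw [he₂, map_div₀, map_add, S.tau_inv, hcN, map_add, S.tau_inv, add_comm (τ _), add_comm (τ _)]
    obtain ⟨z, hz⟩ : ∃ z, z = ρ • (l / ω) / e₂ := ⟨_, rfl⟩
    have hzc : z + τ z = cN := by
      rw [hz, map_div₀, hτe₂, ← add_div, he₂, div_div_cancel₀ hρ]
    obtain ⟨k, hk⟩ : ∃ k, k = ω⁻¹ - z := ⟨_, rfl⟩
    have hτk : τ k = -k := by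
      rw [hk, map_sub]
      linear_combination -hcN - hzc
    obtain ⟨y₁, hy₁⟩ : ∃ y₁, y₁ = v' + k • v := ⟨_, rfl⟩
    have hy₁y₁ : Bf S y₁ y₁ = 0 := by
      rw [hy₁, Bf_add_left, Bf_add_right, Bf_add_right, Bf_smul_left, Bf_smul_left, Bf_smul_right, Bf_smul_right, hvv,
        hv'v', h1, h2, hτk]
      ring
    have hvy₁ : Bf S v y₁ = 1 := by rw [hy₁, Bf_add_right, Bf_smul_right, hvv, mul_zero, add_zero, h1]
    have hy₁v : Bf S y₁ v = 1 := by rw [Bf_swap S v y₁, hvy₁, map_one]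
    have hy₁0 : y₁ ≠ 0 := fun h => one_ne_zero (show (1 : E) = 0 by rw [← hvy₁, h, Bf_zero_right])
    have hy₁C : y₁ ∈ centres S.form M := by
      have h5 := hop S hv hvv hy₁y₁ (by rw [hvy₁]; exact one_ne_zero)
      rwa [hvy₁, one_smul] at h5
    obtain ⟨p, hp⟩ : ∃ p, p = (σ ρ)⁻¹ • e₂ := ⟨_, rfl⟩
    obtain ⟨y, hy⟩ : ∃ y, y = p • y₁ := ⟨_, rfl⟩
    have hyC : y ∈ centres S.form M := by
      rw [hy, hp, smul_assoc]
      exact centres_smul S.form (real_scale S hy₁0 hy₁y₁ hy₁C hτe₂) _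
    have hyy : Bf S y y = 0 := by rw [hy, Bf_smul_left, Bf_smul_right, hy₁y₁, mul_zero, mul_zero]
    have huy : Bf S u y = l := by
      rw [hy, Bf_smul_right, hu, Bf_add_left, hvy₁, Bf_smul_left, hy₁, Bf_add_right, Bf_smul_right, hv'v', h2, hτk,
        hk, mul_one, zero_add, hp, tau_smul S, map_inv₀, S.form.involutive, hτe₂]
      rw [show 1 + ω * -(ω⁻¹ - z) = ω * z by field_simp; ring, hz, Algebra.smul_def, Algebra.smul_def, map_inv₀]
      field_simp [(map_ne_zero (algebraMap F E)).2 hρ0]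
    obtain ⟨x, hx⟩ : ∃ x, x = u + (-1 : F) • y := ⟨_, rfl⟩
    have hxx : Bf S x x = 0 := by
      rw [hx, neg_one_smul, ← sub_eq_add_neg, Bf_sub_left, Bf_sub_right, Bf_sub_right, huu, hyy, huy,
        Bf_swap S u y, huy]
      linear_combination -hlc
    have hxC : x ∈ centres S.form M := by
      rw [hx]
      refine centres_line S.form S.le huC hyC (by rw [f_eq S, huy]; exact htrl) ?_
      rw [← hx, f_eq S, hxx, map_zero]
    have hxy : Bf S x y = l := by
      rw [hx, neg_one_smul, ← sub_eq_add_neg, Bf_sub_left, huy, hyy, sub_zero]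
    have h7 := hop S (hop S hxC hxx hyy (by rw [hxy]; exact hl0))
      (by rw [Bf_smul_left, Bf_smul_right, hyy, mul_zero, mul_zero]) hvv (by
        rw [Bf_smul_left, hy, Bf_smul_left, hy₁v, mul_one, hp]
        exact mul_ne_zero (by rw [← hp, ← hy, hxy]; exact hl0) (smul_ne_zero (inv_ne_zero (by simpa using hρ0)) he₂0))
    rw [Bf_smul_left, hy, Bf_smul_left, hy₁v, mul_one, ← hy, hxy] at h7
    have hlp : l * p ≠ 0 := mul_ne_zero hl0 (hp ▸ smul_ne_zero (inv_ne_zero (by simpa using hρ0)) he₂0)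
    have h8 := hclose _ hlp h7 (σ ρ * r⁻¹) (e⁻¹ * e₂⁻¹) (by rw [map_mul, map_inv₀, map_inv₀, hτe, hτe₂])
    have hσρ : σ ρ ≠ 0 := by simpa using hρ0
    have heq : (σ ρ * r⁻¹) • (e⁻¹ * e₂⁻¹ * (l * p)) = γ := by
      rw [hl, hp]
      simp only [Algebra.smul_def, map_mul, map_inv₀]
      field_simp [(map_ne_zero (algebraMap F E)).2 hr0, (map_ne_zero (algebraMap F E)).2 hσρ]
    rwa [heq] at h8

/-- **All isotropic points are centres.** -/
theorem centres_all (hex : 3 ≤ finrank E (ι → F) ∨ ¬ (finrank F E = 3 ∧ Fintype.card F = 4)) {v : ι → F}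
    (hv0 : v ≠ 0) (hvv : Bf S v v = 0) (hv : v ∈ centres S.form M) :
    ∀ u, f u u = 0 → u ∈ centres S.form M := by
  have hline := line_full S hex hv0 hvv hv
  have hiso₁ : ∀ x, Bf S x x = 0 → Bf S v x ≠ 0 → x ∈ centres S.form M := fun x hxx h => by
    have := hop S (hline (Bf S v x)⁻¹) (by rw [Bf_smul_left, Bf_smul_right, hvv, mul_zero, mul_zero]) hxx
      (by rw [Bf_smul_left, inv_mul_cancel₀ h]; exact one_ne_zero)
    rwa [Bf_smul_left, inv_mul_cancel₀ h, one_smul] at this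
  have hiso : ∀ x, Bf S x x = 0 → x ∈ centres S.form M := by
    intro x hxx
    rcases eq_or_ne x 0 with rfl | hx0
    · exact centres_zero S.form M
    by_cases h : Bf S v x = 0
    swap
    · exact hiso₁ x hxx h
    obtain ⟨v', hv'v', h1, h2⟩ := exists_partnerE S hv0 hvv
    -- an isotropic vector orthogonal to neither
    obtain ⟨z, hzz, hvz, hzx⟩ : ∃ z, Bf S z z = 0 ∧ Bf S v z ≠ 0 ∧ Bf S z x ≠ 0 := by
      by_cases h' : Bf S v' x = 0
      · obtain ⟨x', hx'x', h3, h4⟩ := exists_partnerE S hx0 hxx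
        obtain ⟨p, hp⟩ : ∃ p, p = x' - Bf S x' v' • v - Bf S x' v • v' := ⟨_, rfl⟩
        have hpv : Bf S p v = 0 := by rw [hp, Bf_sub_left, Bf_sub_left, Bf_smul_left, Bf_smul_left, hvv, h2]; ring
        have hpv' : Bf S p v' = 0 := by rw [hp, Bf_sub_left, Bf_sub_left, Bf_smul_left, Bf_smul_left, hv'v', h1]; ring
        have hpx : Bf S p x = 1 := by rw [hp, Bf_sub_left, Bf_sub_left, Bf_smul_left, Bf_smul_left, h, h', h4]; ring
        obtain ⟨t, ht⟩ := exists_trace_one_E S
        obtain ⟨k, hk⟩ : ∃ k, k = -(t * Bf S p p) := ⟨_, rfl⟩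
        refine ⟨v' + k • v + p, ?_, ?_, ?_⟩
        · simp only [Bf_add_left, Bf_add_right, Bf_smul_left, Bf_smul_right, hvv, hv'v', h1, h2, hpv, hpv',
            Bf_swap_zero S hpv, Bf_swap_zero S hpv']
          rw [hk, map_neg, map_mul, ← Bf_swap S p p]
          linear_combination -(Bf S p p) * ht
        · rw [Bf_add_right, Bf_add_right, Bf_smul_right, hvv, h1, Bf_swap_zero S hpv, mul_zero, add_zero, add_zero]
          exact one_ne_zero
        · rw [Bf_add_left, Bf_add_left, Bf_smul_left, h, h', hpx, mul_zero, add_zero, zero_add]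
          exact one_ne_zero
      · exact ⟨v', hv'v', by rw [h1]; exact one_ne_zero, h'⟩
    have hzl : (Bf S z x)⁻¹ • z ∈ centres S.form M := by
      refine hiso₁ _ (by rw [Bf_smul_left, Bf_smul_right, hzz, mul_zero, mul_zero]) ?_
      rw [Bf_smul_right]
      exact mul_ne_zero (tau_ne S (inv_ne_zero hzx)) hvz
    have := hop S hzl (by rw [Bf_smul_left, Bf_smul_right, hzz, mul_zero, mul_zero]) hxx
      (by rw [Bf_smul_left, inv_mul_cancel₀ hzx]; exact one_ne_zero)
    rwa [Bf_smul_left, inv_mul_cancel₀ hzx, one_smul] at this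
  intro u huu
  by_cases hc : Bf S u u = 0
  · exact hiso u hc
  obtain ⟨z, hzu, hzz⟩ := exists_perp_one S hc
  obtain ⟨c, hcdef⟩ : ∃ c, c = Bf S u u := ⟨_, rfl⟩
  have hτc : τ c = c := hcdef ▸ (Bf_swap S u u).symm
  obtain ⟨s, hs, hsσ⟩ := exists_trace_zero S.form
  obtain ⟨e, he, hne⟩ := exists_tr_real S (hcdef ▸ hc : c ≠ 0)
  obtain ⟨t, ht⟩ := exists_trace_one_E S
  obtain ⟨a, ha, hane⟩ : ∃ a, a + τ a = 1 ∧ tr F E (τ a * c) ≠ 0 := by
    by_cases h : tr F E (τ t * c) = 0
    · refine ⟨t + s • e, ?_, ?_⟩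
      · rw [map_add, tau_smul S, hsσ, he, neg_smul]
        linear_combination ht
      · rw [map_add τ, tau_smul S, hsσ, he, add_mul, map_add, h, zero_add, neg_smul, neg_mul, map_neg,
          smul_mul_assoc, map_smul, smul_eq_mul, neg_ne_zero]
        exact mul_ne_zero hs hne
    · exact ⟨t, ht, h⟩
  have hzzτ : τ (Bf S z z) = Bf S z z := (Bf_swap S z z).symm
  obtain ⟨μ, hμ⟩ := exists_norm_E S (d := -(a * τ a * c) / Bf S z z) (by
    rw [map_div₀, map_neg, map_mul, map_mul, S.tau_inv, hτc, hzzτ, mul_comm (τ a)])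
  obtain ⟨y, hy⟩ : ∃ y, y = a • u + μ • z := ⟨_, rfl⟩
  have hyy : Bf S y y = 0 := by
    rw [hy]
    simp only [Bf_add_left, Bf_add_right, Bf_smul_left, Bf_smul_right, hzu, Bf_swap_zero S hzu, ← hcdef]
    rw [eq_div_iff hzz] at hμ
    linear_combination hμ
  have huy : Bf S u y = τ a * c := by
    rw [hy, Bf_add_right, Bf_smul_right, Bf_smul_right, Bf_swap_zero S hzu, ← hcdef, mul_zero, add_zero]
  obtain ⟨x, hx⟩ : ∃ x, x = u - y := ⟨_, rfl⟩
  have hxx : Bf S x x = 0 := by
    rw [hx, Bf_sub_left, Bf_sub_right, Bf_sub_right, hyy, huy, Bf_swap S u y, huy, ← hcdef, map_mul, S.tau_inv, hτc]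
    linear_combination -c * ha
  have hxy : f x y ≠ 0 := by
    rw [f_eq S, hx, Bf_sub_left, huy, hyy, sub_zero]; exact hane
  have h9 := centres_line S.form S.le (hiso x hxx) (hiso y hyy) hxy (r := 1) (by rwa [one_smul, hx, sub_add_cancel])
  rwa [one_smul, hx, sub_add_cancel] at h9

end CfsgLib.Perm.Trans.Unit.Ext
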